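import Groth.Agent.Lib.KSix19.RelPCModel
import Groth.Agent.Lib.DCxKFlat.LBaseKFlat

/-! # Relative pseudo-coherence and flat base change, without boundedness -/

set_option autoImplicit false
set_option maxHeartbeats 1000000
set_option backward.isDefEq.respectTransparency false
set_option linter.style.haveILetI false
universe u

open CategoryTheory CategoryTheory.Limits AlgebraicGeometry HomologicalComplex TopologicalSpace
open scoped TensorProduct

attribute [local instance] HasDerivedCategory.standard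
attribute [local instance] MvPolynomial.algebraMvPolynomial

namespace GrothLib.KSix19

open GrothLib.OX

variable {X Y X' Y' : Scheme.{u}} {A B : Type u} [CommRing A] [CommRing B]

/-- Objects of `D_qc` have K-flat models. -/
theorem exists_modelU (j : Spec (CommRingCat.of B) ⟶ X) [IsOpenImmersion j] {K : DCoh.D X}
    (hK : DCoh.IsQCohD K) : ∃ C : DRing.Cx B, KF.IsKFlat C ∧ IsModel j C K := by
  obtain ⟨M, ⟨eM⟩⟩ := exists_tildeD_rep hK (R := CommRingCat.of B) j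
  obtain ⟨C, hC, -, ⟨eC⟩⟩ := KF.exists_kflat_rep M
  exact ⟨C, hC, ⟨eM.symm ≪≫ (DCoh.tildeD _).mapIso eC.symm ≪≫
    (tilde.functor (CommRingCat.of B)).mapDerivedCategoryFactors.app C⟩⟩

/-- The pullback of a model. -/
theorem isModel_lpullU (p : X' ⟶ X) [DCoh.HasLpull p] (j : Spec (CommRingCat.of A) ⟶ X) [IsOpenImmersion j]
    (j' : Spec (CommRingCat.of B) ⟶ X') [IsOpenImmersion j'] (φ : A →+* B) (w : j' ≫ p = specHom φ ≫ j)
    {K : DCoh.D X} {C : DRing.Cx A} (hkC : KF.IsKFlat C) (hC : IsModel j C K) :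
    IsModel j' ((DR.bc φ).obj C) ((DCoh.Lpull p).obj K) := by
  obtain ⟨eC⟩ := hC
  obtain ⟨P, hkP, ⟨eP⟩⟩ := exists_kflat_rep K
  let jP := (pullCxF j).obj P
  have hkjP : DCoh.IsKFlat jP := isKFlat_pullback j hkP
  haveI := hasLpull (specHom φ)
  obtain ⟨v⟩ := lpull_value p P hkP
  obtain ⟨v₁⟩ := lpull_value (specHom φ) jP hkjP
  obtain ⟨v₂⟩ := lpull_value (specHom φ) (tlCx C) (kflat_tilde hkC)
  let a : DerivedCategory.Q.obj jP ≅ DerivedCategory.Q.obj (tlCx C) :=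
    DerivedCategory.Q.mapIso ((resPullCxIso j).app P).symm ≪≫ ((resDFac j).app P).symm ≪≫
      (resD j).mapIso eP ≪≫ eC
  let c : (resCx j').obj ((pullCxF p).obj P) ≅ (pullCxF (specHom φ)).obj jP :=
    (resPullCxIso j').app _ ≪≫ (NatIso.mapHomologicalComplex (Scheme.Modules.pullbackComp j' p ≪≫
      Scheme.Modules.pullbackCongr w ≪≫ (Scheme.Modules.pullbackComp (specHom φ) j).symm) (ComplexShape.up ℤ)).app P
  exact ⟨(resD j').mapIso ((DCoh.Lpull p).mapIso eP.symm ≪≫ v) ≪≫ (resDFac j').app _ ≪≫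
    DerivedCategory.Q.mapIso c ≪≫ v₁.symm ≪≫ (DCoh.Lpull (specHom φ)).mapIso a ≪≫ v₂ ≪≫
    DerivedCategory.Q.mapIso ((tildePullCxIso φ).app C)⟩

variable {f : X ⟶ Y} {h : Y' ⟶ Y} {g : X' ⟶ X} {f' : X' ⟶ Y'}

/-- Models and charts of a base change. -/
theorem exists_chart_model_pullbackU (H : IsPullback g f' f h) [DCoh.HasLpull g] {V : Y.Opens} (hV : IsAffineOpen V)
    {U : X.Opens} (hU : IsAffineOpen U) (hle : U ≤ f ⁻¹ᵁ V) {V' : Y'.Opens} (hV' : IsAffineOpen V')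
    (hle' : V' ≤ h ⁻¹ᵁ V) {n : ℕ} {φ : MvPolynomial (Fin n) Γ(Y, V) →+* Γ(X, U)}
    (hφ : DerSch.IsChart f U V hle φ) {K : DCoh.D X} {C : DRing.Cx Γ(X, U)}
    (hkC : KF.IsKFlat C) (hC : IsModel (B := Γ(X, U)) hU.fromSpec C K) :
    ∃ (U' : X'.Opens) (hU' : IsAffineOpen U') (hle'' : U' ≤ f' ⁻¹ᵁ V') (hg : U' ≤ g ⁻¹ᵁ U)
      (φ' : MvPolynomial (Fin n) Γ(Y', V') →+* Γ(X', U')),
      U' = g ⁻¹ᵁ U ⊓ f' ⁻¹ᵁ V' ∧ DerSch.IsChart f' U' V' hle'' φ' ∧
      IsModel (B := Γ(X', U')) hU'.fromSpec ((DR.bc (g.appLE U U' hg).hom).obj C) ((DCoh.Lpull g).obj K) ∧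
      IsPushout (CommRingCat.ofHom φ) (CommRingCat.ofHom (MvPolynomial.map (h.appLE V V' hle').hom))
        (CommRingCat.ofHom (g.appLE U U' hg).hom) (CommRingCat.ofHom φ') ∧
      ((h.appLE V V' hle').hom.Flat → (MvPolynomial.map (h.appLE V V' hle').hom :
        MvPolynomial (Fin n) Γ(Y, V) →+* MvPolynomial (Fin n) Γ(Y', V')).Flat) ∧
      ((h.appLE V V' hle').hom.Flat → Function.Surjective (PrimeSpectrum.comap (h.appLE V V' hle').hom) →
        Function.Surjective (PrimeSpectrum.comap (MvPolynomial.map (h.appLE V V' hle').hom :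
          MvPolynomial (Fin n) Γ(Y, V) →+* MvPolynomial (Fin n) Γ(Y', V')))) := by
  haveI : IsAffine U.toScheme := hU
  haveI : IsAffine V.toScheme := hV
  haveI : IsAffine V'.toScheme := hV'
  have hU' : IsAffineOpen (g ⁻¹ᵁ U ⊓ f' ⁻¹ᵁ V') :=
    .of_isIso (Scheme.Hom.isPullback_resLE H hle' hle rfl).isoPullback.hom
  have hpo := (isIso_pushoutSection_iff H hle' hle rfl).1
    (isIso_pushoutSection_of_isAffineOpen H hle' hle rfl hV hV' hU)
  obtain ⟨φ', hs, hC', hsq, h1, h2⟩ := exists_chart_square (a := (h.appLE V V' hle').hom)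
    (b := (f.appLE V U hle).hom) (g := (g.appLE U _ inf_le_left).hom) (b' := (f'.appLE V' _ inf_le_right).hom)
    hpo φ hφ.1 hφ.2
  exact ⟨_, hU', inf_le_right, inf_le_left, φ', rfl, ⟨hs, hC'⟩,
    isModel_lpullU (A := Γ(X, U)) (B := Γ(X', g ⁻¹ᵁ U ⊓ f' ⁻¹ᵁ V')) g hU.fromSpec hU'.fromSpec _
      (IsAffineOpen.SpecMap_appLE_fromSpec g hU hU' inf_le_left).symm hkC hC, hsq, h1, h2⟩

/-- **Flat base change of relative pseudo-coherence.** -/
theorem isPseudoCoherentRel_lpull_flatU (H : IsPullback g f' f h) [Flat h] [LocallyOfFiniteType f]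
    [DCoh.HasLpull g] {K : DCoh.D X} (hq : DCoh.IsQCohD K) {m : ℤ}
    (hK : DerSch.IsPseudoCoherentRel f m K) : DerSch.IsPseudoCoherentRel f' m ((DCoh.Lpull g).obj K) := by
  haveI : LocallyOfFiniteType f' := MorphismProperty.of_isPullback H ‹LocallyOfFiniteType f›
  refine isPseudoCoherentRel_of_local fun x => ?_
  obtain ⟨U, V, hU, hV, hxU, -, hle⟩ := exists_affine_pair f (O := ⊤) (x := g x) trivial
  obtain ⟨n, φ, hφ⟩ := exists_isChart f hU hV hle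
  have hx : h (f' x) ∈ V := by
    rw [← Scheme.Hom.comp_apply, ← H.w, Scheme.Hom.comp_apply]
    exact hle hxU
  obtain ⟨V', hV', hxV', hle'⟩ := exists_isAffineOpen_mem_and_subset (x := f' x) (U := h ⁻¹ᵁ V) hx
  obtain ⟨C, hkC, hC⟩ := exists_modelU (B := Γ(X, U)) hU.fromSpec hq
  obtain ⟨U', hU', hle'', hg, φ', hUe, hφ', hC', hsq, h1, -⟩ := exists_chart_model_pullbackU H hV hU hle hV' hle'
    hφ hkC hC
  exact ⟨U', V', hle'', n, φ', by rw [hUe]; exact ⟨hxU, hxV'⟩, hU', hV', hφ', (pcOn_iff_model hU' hφ'.1 hC').2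
    ((pc_restrict_bc hsq (h1 (Flat.flat_appLE h hV hV' hle')) C).1
      ((pcOn_iff_model hU hφ.1 hC).1 (pcOn_of_isPseudoCoherentRel hK hU hV hφ)))⟩

/-- **Faithfully flat descent of relative pseudo-coherence.** -/
theorem isPseudoCoherentRel_of_flat_descentU (H : IsPullback g f' f h) [LocallyOfFiniteType f] [Flat h]
    [Surjective h] [QuasiCompact h] [DCoh.HasLpull g] {K : DCoh.D X} (hq : DCoh.IsQCohD K)
    {m : ℤ} (hK : DerSch.IsPseudoCoherentRel f' m ((DCoh.Lpull g).obj K)) :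
    DerSch.IsPseudoCoherentRel f m K := by
  haveI : LocallyOfFiniteType f' := MorphismProperty.of_isPullback H ‹LocallyOfFiniteType f›
  refine isPseudoCoherentRel_of_local fun x => ?_
  obtain ⟨U, V, hU, hV, hxU, -, hle⟩ := exists_affine_pair f (O := ⊤) (x := x) trivial
  obtain ⟨n, φ, hφ⟩ := exists_isChart f hU hV hle
  obtain ⟨C, hkC, hC⟩ := exists_modelU (B := Γ(X, U)) hU.fromSpec hq
  obtain ⟨W, hW, k, hk, hkV, hsur⟩ := exists_affine_refinement h hV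
  let H₁ : IsPullback (pullback.fst f' k) (pullback.snd f' k) f' k := IsPullback.of_hasPullback f' k
  let k' := pullback.fst f' k
  let f'' := pullback.snd f' k
  have H₂ : IsPullback (k' ≫ g) f'' f (k ≫ h) := H₁.paste_horiz H
  haveI : LocallyOfFiniteType f'' := MorphismProperty.pullback_snd _ _ inferInstance
  haveI := hasLpull (k' ≫ g)
  obtain ⟨U'', hU'', hle₂, hg₂, φ₂, hU''e, hφ₂, hC₂, hsq₂, h1₂, h2₂⟩ :=
    exists_chart_model_pullbackU H₂ hV hU hle (isAffineOpen_top W) hkV hφ hkC hC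
  have hpc : PCOn m ((DCoh.Lpull (k' ≫ g)).obj K) U'' φ₂ := by
    refine pcOn_of_local hU'' hφ₂.1 fun z hz => ?_
    have hz' : g (k' z) ∈ U := by rw [← Scheme.Hom.comp_apply]; exact hg₂ hz
    have hx : h (f' (k' z)) ∈ V := by
      rw [← Scheme.Hom.comp_apply, ← H.w, Scheme.Hom.comp_apply]
      exact hle hz'
    obtain ⟨V₁, hV₁, hzV₁, hle₁⟩ := exists_isAffineOpen_mem_and_subset (x := f' (k' z)) (U := h ⁻¹ᵁ V) hx
    obtain ⟨U₁, hU₁, hle₁', hg₁, φ₁, hU₁e, hφ₁, hC₁, -, -, -⟩ :=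
      exists_chart_model_pullbackU H hV hU hle hV₁ hle₁ hφ hkC hC
    have hzk : k (f'' z) ∈ V₁ := by
      rw [← Scheme.Hom.comp_apply, ← H₁.w, Scheme.Hom.comp_apply]
      exact hzV₁
    obtain ⟨W', hW', hzW', hle₃⟩ := exists_isAffineOpen_mem_and_subset (x := f'' z) (U := k ⁻¹ᵁ V₁) hzk
    haveI : IsAffine U₁.toScheme := hU₁
    haveI : IsAffine V₁.toScheme := hV₁
    haveI : IsAffine W'.toScheme := hW'
    let U₃ := k' ⁻¹ᵁ U₁ ⊓ f'' ⁻¹ᵁ W'
    have hU₃ : IsAffineOpen U₃ := .of_isIso (Scheme.Hom.isPullback_resLE H₁ hle₃ hle₁' rfl).isoPullback.hom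
    have hpo := (isIso_pushoutSection_iff H₁ hle₃ hle₁' rfl).1
      (isIso_pushoutSection_of_isAffineOpen H₁ hle₃ hle₁' rfl hV₁ hW' hU₁)
    obtain ⟨φ₃, hs₃, hC₃e, hsq₃, h1₃, -⟩ := exists_chart_square (a := (k.appLE V₁ W' hle₃).hom)
      (b := (f'.appLE V₁ U₁ hle₁').hom) (g := (k'.appLE U₁ U₃ inf_le_left).hom)
      (b' := (f''.appLE W' U₃ inf_le_right).hom) hpo φ₁ hφ₁.1 hφ₁.2
    have hg₃ : U₃ ≤ (k' ≫ g) ⁻¹ᵁ U := fun y hy => hg₁ hy.1
    have hcomp : ((k' ≫ g).appLE U U₃ hg₃).hom = (k'.appLE U₁ U₃ inf_le_left).hom.comp (g.appLE U U₁ hg₁).hom := by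
      rw [← CommRingCat.hom_comp, Scheme.Hom.appLE_comp_appLE]
    have hC₃ : IsModel (B := Γ(pullback f' k, U₃)) hU₃.fromSpec
        ((DR.bc (k'.appLE U₁ U₃ inf_le_left).hom).obj ((DR.bc (g.appLE U U₁ hg₁).hom).obj C))
        ((DCoh.Lpull (k' ≫ g)).obj K) := by
      refine isModel_of_iso (DerivedCategory.Q.mapIso (eqToIso (congrArg (fun ψ => (DR.bc ψ).obj C) hcomp) ≪≫
        DR.bcCompIso _ _ C)) (isModel_lpullU (A := Γ(X, U)) (B := Γ(pullback f' k, U₃)) (k' ≫ g) hU.fromSpec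
          hU₃.fromSpec _ (IsAffineOpen.SpecMap_appLE_fromSpec (k' ≫ g) hU hU₃ hg₃).symm hkC hC)
    have h₃ : PCOn m ((DCoh.Lpull (k' ≫ g)).obj K) U₃ φ₃ := (pcOn_iff_model hU₃ hs₃ hC₃).2
      ((pc_restrict_bc hsq₃ (h1₃ (Flat.flat_appLE k hV₁ hW' hle₃)) _).1
        ((pcOn_iff_model hU₁ hφ₁.1 hC₁).1 (pcOn_of_isPseudoCoherentRel hK hU₁ hV₁ hφ₁)))
    exact exists_common_basicOpen f'' hU'' hU₃ (isAffineOpen_top W) hW' hle₂ inf_le_right hφ₂ ⟨hs₃, hC₃e⟩ h₃ hz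
      ⟨by rw [hU₁e]; exact ⟨hz', hzV₁⟩, hzW'⟩
  refine ⟨U, V, hle, n, φ, hxU, hU, hV, hφ, (pcOn_iff_model hU hφ.1 hC).2
    ((pc_restrict_bc hsq₂ (h1₂ (Flat.flat_appLE (k ≫ h) hV (isAffineOpen_top W) hkV)) C).2
      (h2₂ (Flat.flat_appLE (k ≫ h) hV (isAffineOpen_top W) hkV) ?_) ((pcOn_iff_model hU'' hφ₂.1 hC₂).1 hpc))⟩
  have hs : Surjective (Spec.map ((k ≫ h).appLE V ⊤ hkV)) := by
    refine ⟨fun p => ?_⟩
    obtain ⟨w, hw⟩ := hsur (hV.fromSpec p) (by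
      have : hV.fromSpec p ∈ Set.range hV.fromSpec := ⟨p, rfl⟩
      rwa [hV.range_fromSpec] at this)
    obtain ⟨q, hq'⟩ : w ∈ Set.range (isAffineOpen_top W).fromSpec := by
      rw [(isAffineOpen_top W).range_fromSpec]; trivial
    refine ⟨q, hV.fromSpec.isOpenEmbedding.injective ?_⟩
    rw [← Scheme.Hom.comp_apply, IsAffineOpen.SpecMap_appLE_fromSpec (k ≫ h) hV (isAffineOpen_top W) hkV,
      Scheme.Hom.comp_apply, hq', Scheme.Hom.comp_apply, hw]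
  exact hs.surj

end GrothLib.KSix19
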