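import Groth.Agent.Lib.KSix19.RelOps
import Groth.Agent.Lib.KSix19.RelPCModel
import Groth.Agent.Lib.KSix19.GradedPush
import Groth.Agent.Lib.PC.Devissage

/-! # Dévissage of relative pseudo-coherence -/

set_option autoImplicit false
set_option maxHeartbeats 800000
set_option backward.isDefEq.respectTransparency false
universe u

open CategoryTheory CategoryTheory.Limits CategoryTheory.Pretriangulated AlgebraicGeometry

attribute [local instance] HasDerivedCategory.standard

namespace GrothLib.RelPCUnb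

open GrothLib.OX GrothLib.KSix19

variable {X Y : Scheme.{u}} {f : X ⟶ Y} [LocallyOfFiniteType f]

/-- Objects vanishing in degrees `≥ m` are `m`-pseudo-coherent relative to any morphism. -/
theorem isPseudoCoherentRel_of_isLE {m : ℤ} {K : DCoh.D X} (hK : K.IsLE (m - 1)) :
    DerSch.IsPseudoCoherentRel f m K := by
  refine isPseudoCoherentRel_of_local fun x => ?_
  obtain ⟨U, V, hU, hV, hxU, -, hle⟩ := exists_affine_pair f (O := ⊤) (x := x) trivial
  obtain ⟨n, φ, hφ⟩ := exists_isChart f hU hV hle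
  have := isClosedImmersion_immOf hU hφ.1
  refine ⟨U, V, hle, n, φ, hxU, hU, hV, hφ, (pcOn_iff_pushD hU hφ.1).2 ?_⟩
  exact isPseudoCoherentD_iff.2 fun z => ⟨_, 𝟙 _, inferInstance, ⟨z, rfl⟩,
    (approx_of_isLE (isLE_pushD (immOf U φ) (isLE_resD U.ι hK))).restrict (𝟙 _)⟩

/-- Shifting. -/
theorem isPseudoCoherentRel_shift {m : ℤ} {K : DCoh.D X} (h : DerSch.IsPseudoCoherentRel f m K) (k n : ℤ)
    (hn : k + n = m) : DerSch.IsPseudoCoherentRel f n (K⟦k⟧) := by
  refine isPseudoCoherentRel_of_local fun x => ?_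
  obtain ⟨U, V, hU, hV, hxU, -, hle⟩ := exists_affine_pair f (O := ⊤) (x := x) trivial
  obtain ⟨l, φ, hφ⟩ := exists_isChart f hU hV hle
  have := isClosedImmersion_immOf hU hφ.1
  refine ⟨U, V, hle, l, φ, hxU, hU, hV, hφ, (pcOn_iff_pushD hU hφ.1).2 ?_⟩
  exact isPseudoCoherentD_of_iso (isPseudoCoherentD_shift ((pcOn_iff_pushD hU hφ.1).1
      (pcOn_of_isPseudoCoherentRel h hU hV hφ)) k n hn)
    ((((resD U.ι ⋙ pushD (immOf U φ)).commShiftIso k).app K).symm)

/-- A module in degree `i`. -/
theorem isPseudoCoherentRel_single {m i : ℤ} {M : X.Modules}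
    (h : DerSch.IsPseudoCoherentRel f (m - i) (DCoh.inD X M)) :
    DerSch.IsPseudoCoherentRel f m ((DerivedCategory.singleFunctor X.Modules i).obj M) := by
  have e₀ : DCoh.inD X M ≅ (DerivedCategory.singleFunctor X.Modules 0).obj M :=
    Iso.refl _
  exact isPseudoCoherentRel_of_iso (((DerivedCategory.singleFunctors X.Modules).shiftIso (-i) i 0 (by omega)).app M)
    (isPseudoCoherentRel_shift (isPseudoCoherentRel_of_iso e₀ h) (-i) m (by omega))

/-- Relative pseudo-coherence from the cohomology sheaves. -/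
theorem isPseudoCoherentRel_of_homology {m b : ℤ} (E : DCoh.D X) [E.IsLE b]
    (h : ∀ i : ℤ, DerSch.IsPseudoCoherentRel f (m - i) (DCoh.inD X (DCoh.HD E i))) :
    DerSch.IsPseudoCoherentRel f m E :=
  GrothLib.PC.homology_induction (DerSch.IsPseudoCoherentRel f m)
    (fun _ hT h₁ h₃ => (isPseudoCoherentRel_triangle f m hT).2.1 h₁ h₃) m
    (fun F hF => isPseudoCoherentRel_of_isLE ((DerivedCategory.isLE_iff _ _).2 fun i hi => hF i (by omega)))
    E b (fun i hi => DerivedCategory.isZero_of_isLE E b i hi) fun i _ _ Y ⟨eY⟩ =>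
      isPseudoCoherentRel_of_iso ((DerivedCategory.singleFunctor X.Modules i).mapIso eY.symm)
        (isPseudoCoherentRel_single (h i))

/-- Relative pseudo-coherence from the terms, degree by degree. -/
theorem isPseudoCoherentRel_of_termwise {m b : ℤ} (F : CochainComplex X.Modules ℤ)
    (hb : ∀ i, b < i → IsZero (F.X i)) (h : ∀ i : ℤ, DerSch.IsPseudoCoherentRel f (m - i) (DCoh.inD X (F.X i))) :
    DerSch.IsPseudoCoherentRel f m (DCoh.toD X F) :=
  GrothLib.PC.stupid_induction (DerSch.IsPseudoCoherentRel f m) (fun e h => isPseudoCoherentRel_of_iso e h)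
    (fun _ hT h₁ h₃ => (isPseudoCoherentRel_triangle f m hT).2.1 h₁ h₃) m
    (fun K hK => isPseudoCoherentRel_of_isLE ((DerivedCategory.isLE_iff _ _).2 fun i hi =>
      GrothLib.PC.isZero_homology_of_isLE (hK i (by omega))))
    F b hb fun i _ _ Y ⟨eY⟩ =>
      isPseudoCoherentRel_of_iso ((DerivedCategory.singleFunctor X.Modules i).mapIso eY.symm)
        (isPseudoCoherentRel_single (h i))

end GrothLib.RelPCUnb
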