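import Groth.Agent.Lib.RelPCUnb.Model
import Groth.Agent.Lib.DCxRing.Descent
import Mathlib.AlgebraicGeometry.Morphisms.UniversallyOpen

/-! # Descent of relative pseudo-coherence along flat open covering families of the base -/

set_option autoImplicit false
set_option maxHeartbeats 800000
set_option backward.isDefEq.respectTransparency false
set_option linter.style.haveILetI false
universe u

open CategoryTheory CategoryTheory.Limits AlgebraicGeometry HomologicalComplex Opposite TopologicalSpace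
open scoped TensorProduct

attribute [local instance] HasDerivedCategory.standard
attribute [local instance] MvPolynomial.algebraMvPolynomial

namespace GrothLib.RelPCUnb

open GrothLib.OX GrothLib.KSix19

/-- A finite flat family of ring maps, jointly surjective on spectra, detects zero modules. -/
theorem covers_of_flat {A : Type u} [CommRing A] {ι : Type} [Fintype ι] {S : ι → Type u} [∀ i, CommRing (S i)]
    (φ : ∀ i, A →+* S i) (hflat : ∀ i, (φ i).Flat)
    (hs : ∀ p : PrimeSpectrum A, ∃ i q, PrimeSpectrum.comap (φ i) q = p) : DR.Covers φ := by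
  classical
  intro M h
  letI : ∀ i, Algebra A (S i) := fun i => (φ i).toAlgebra
  haveI : ∀ i, Module.Flat A (S i) := fun i => hflat i
  haveI : Module.Flat A (Π i, S i) :=
    Module.Flat.of_linearEquiv (DFinsupp.linearEquivFunOnFintype (R := A) (M := S)).symm
  haveI : Module.FaithfullyFlat A (Π i, S i) := Module.FaithfullyFlat.of_comap_surjective fun p => by
    obtain ⟨i, q, hq⟩ := hs p
    exact ⟨PrimeSpectrum.comap (Pi.evalRingHom S i) q, by rw [← hq]; rfl⟩
  haveI : ∀ i, Subsingleton ((S i) ⊗[A] M) := fun i => by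
    obtain ⟨e⟩ := DR.nonempty_extendScalars_iso (A := A) (B := S i) M
    haveI := ModuleCat.subsingleton_of_isZero ((h i).of_iso e.symm)
    exact ‹Subsingleton (ModuleCat.of (S i) (S i ⊗[A] M))›
  haveI : ∀ i, Subsingleton (M ⊗[A] S i) := fun i => (TensorProduct.comm A M (S i)).toEquiv.subsingleton
  haveI : Subsingleton ((Π i, S i) ⊗[A] M) :=
    ((TensorProduct.comm A (Π i, S i) M).trans (TensorProduct.piRight A A M S)).toEquiv.subsingleton
  haveI := Module.FaithfullyFlat.lTensor_reflects_triviality A (Π i, S i) M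
  exact ModuleCat.isZero_of_subsingleton M

/-- Polynomial rings over a cover form a cover. -/
theorem covers_map {A : Type u} [CommRing A] {ι : Type} {S : ι → Type u} [∀ i, CommRing (S i)]
    {φ : ∀ i, A →+* S i} (hc : DR.Covers φ) (σ : Type) :
    DR.Covers fun i => (MvPolynomial.map (φ i) : MvPolynomial σ A →+* MvPolynomial σ (S i)) := by
  intro M h
  letI : ∀ i, Algebra A (S i) := fun i => (φ i).toAlgebra
  letI : Module A M := Module.compHom _ (MvPolynomial.C : A →+* MvPolynomial σ A)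
  haveI : IsScalarTower A (MvPolynomial σ A) M := .of_algebraMap_smul fun _ _ => rfl
  have h' : IsZero (ModuleCat.of A M) := hc _ fun i => by
    haveI hpo : Algebra.IsPushout A (S i) (MvPolynomial σ A) (MvPolynomial σ (S i)) := inferInstance
    obtain ⟨e⟩ := DR.nonempty_extendScalars_iso (A := A) (B := S i) (ModuleCat.of A M)
    obtain ⟨e'⟩ := DR.nonempty_extendScalars_iso (A := MvPolynomial σ A) (B := MvPolynomial σ (S i)) M
    haveI := ModuleCat.subsingleton_of_isZero ((h i).of_iso e'.symm)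
    haveI : Subsingleton (MvPolynomial σ (S i) ⊗[MvPolynomial σ A] M) :=
      ‹Subsingleton (ModuleCat.of (MvPolynomial σ (S i)) (MvPolynomial σ (S i) ⊗[MvPolynomial σ A] M))›
    haveI : Subsingleton (S i ⊗[A] M) :=
      (Algebra.IsPushout.cancelBaseChange A (S i) (MvPolynomial σ A) (MvPolynomial σ (S i)) M).symm.toEquiv.subsingleton
    exact (ModuleCat.isZero_of_subsingleton (ModuleCat.of (S i) (S i ⊗[A] M))).of_iso e
  haveI : Subsingleton M := (ModuleCat.subsingleton_of_isZero h' : Subsingleton (ModuleCat.of A M))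
  exact ModuleCat.isZero_of_subsingleton M

/-- **Descent along a flat open covering family of the base.** -/
theorem isPseudoCoherentRel_of_family {X Y : Scheme.{u}} {f : X ⟶ Y} [LocallyOfFiniteType f] {ι : Type u}
    {Yi : ι → Scheme.{u}} {Xi : ι → Scheme.{u}} {h : ∀ i, Yi i ⟶ Y} [∀ i, Flat (h i)]
    {g : ∀ i, Xi i ⟶ X} {f' : ∀ i, Xi i ⟶ Yi i} (H : ∀ i, IsPullback (g i) (f' i) f (h i))
    (hopen : ∀ i, IsOpenMap (h i)) (hcov : ∀ y : Y, ∃ i t, h i t = y) [∀ i, DCoh.HasLpull (g i)]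
    {K : DCoh.D X} (hq : DCoh.IsQCohD K) {m : ℤ}
    (hK : ∀ i, DerSch.IsPseudoCoherentRel (f' i) m ((DCoh.Lpull (g i)).obj K)) :
    DerSch.IsPseudoCoherentRel f m K := by
  refine isPseudoCoherentRel_of_local fun x => ?_
  obtain ⟨U, V, hU, hV, hxU, -, hle⟩ := exists_affine_pair f (O := ⊤) (x := x) trivial
  obtain ⟨n, φ, hφ⟩ := exists_isChart f hU hV hle
  obtain ⟨C, hkC, hC⟩ := exists_modelU (B := Γ(X, U)) hU.fromSpec hq
  have hnb : ∀ s : V, ∃ (i : ι) (W : (Yi i).Opens), IsAffineOpen W ∧ W ≤ h i ⁻¹ᵁ V ∧ s.1 ∈ h i '' W := by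
    intro s
    obtain ⟨i, t, ht⟩ := hcov s.1
    obtain ⟨W, hW, htW, hWV⟩ := exists_isAffineOpen_mem_and_subset (x := t) (U := h i ⁻¹ᵁ V)
      (show h i t ∈ V by rw [ht]; exact s.2)
    exact ⟨i, W, hW, hWV, t, htW, ht⟩
  choose i W hW hWV hs using hnb
  obtain ⟨F, hF⟩ := hV.isCompact.elim_finite_subcover (fun s : V => h (i s) '' W s)
    (fun s => hopen _ _ (W s).isOpen) fun y hy => Set.mem_iUnion.2 ⟨⟨y, hy⟩, hs ⟨y, hy⟩⟩
  let r := F.card
  let s : Fin r → V := fun j => (F.equivFin.symm j).1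
  let a : ∀ j, Γ(Y, V) →+* Γ(Yi (i (s j)), W (s j)) := fun j =>
    ((h (i (s j))).appLE V (W (s j)) (hWV (s j))).hom
  have hafl : ∀ j, (a j).Flat := fun j => Flat.flat_appLE _ hV (hW _) (hWV _)
  have hsur : ∀ p : PrimeSpectrum Γ(Y, V), ∃ j q, PrimeSpectrum.comap (a j) q = p := by
    intro p
    have hp : hV.fromSpec p ∈ (V : Set Y) := by
      rw [← hV.range_fromSpec]; exact ⟨p, rfl⟩
    obtain ⟨t, ht⟩ := Set.mem_iUnion.1 (hF hp)
    obtain ⟨htF, w, hw, hwp⟩ := Set.mem_iUnion.1 ht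
    obtain ⟨j, rfl⟩ : ∃ j, s j = t := ⟨F.equivFin ⟨t, htF⟩, by simp [s]⟩
    rw [SetLike.mem_coe, ← SetLike.mem_coe, ← (hW (s j)).range_fromSpec] at hw
    obtain ⟨q, rfl⟩ := hw
    refine ⟨j, q, hV.fromSpec.isOpenEmbedding.injective ?_⟩
    rw [← hwp]
    change hV.fromSpec (Spec.map ((h (i (s j))).appLE V (W (s j)) (hWV (s j))) q) = _
    rw [← Scheme.Hom.comp_apply, IsAffineOpen.SpecMap_appLE_fromSpec _ hV (hW _) (hWV _), Scheme.Hom.comp_apply]
  let σ : ∀ j, MvPolynomial (Fin n) Γ(Y, V) →+* MvPolynomial (Fin n) Γ(Yi (i (s j)), W (s j)) := fun j =>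
    MvPolynomial.map (a j)
  have hres : ∀ j, (σ j).Flat ∧ DRing.IsPseudoCoherent (MvPolynomial (Fin n) Γ(Yi (i (s j)), W (s j))) m
      (DRing.toD ((DR.bc (σ j)).obj ((DRing.restrictCx φ).obj C))) := by
    intro j
    haveI : LocallyOfFiniteType (f' (i (s j))) := MorphismProperty.of_isPullback (H _) ‹LocallyOfFiniteType f›
    obtain ⟨U', hU', hle'', hg, φ', -, hφ', hC', hsq, h1, -⟩ :=
      exists_chart_model_pullbackU (H (i (s j))) hV hU hle (hW (s j)) (hWV (s j)) hφ hkC hC
    have hpc := (pcOn_iff_model hU' hφ'.1 hC').1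
      (pcOn_of_isPseudoCoherentRel (hK (i (s j))) hU' (hW (s j)) hφ')
    obtain ⟨hw, hpo⟩ := isPushoutHom_of_isPushout hsq
    haveI := DR.isIso_canCx hw hpo C
    exact ⟨h1 (hafl j), DerBC.isPseudoCoherent_of_iso
      (DerivedCategory.Q.mapIso (asIso (DR.canCx hw C))).symm hpc⟩
  exact ⟨U, V, hle, n, φ, hxU, hU, hV, hφ, (pcOn_iff_model hU hφ.1 hC).2
    (DR.isPseudoCoherent_of_covers (covers_map (covers_of_flat a hafl hsur) (Fin n)) (fun j => (hres j).1) _ m
      fun j => (hres j).2)⟩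

end GrothLib.RelPCUnb
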