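import Groth.Agent.Lib.RelPCUnb.Source
import Groth.Agent.Lib.RelPC.Transport
import Groth.Agent.Lib.OX.AffinePush
import Groth.Agent.Lib.OX.RpushQCoh

/-! # Relative pseudo-coherence and finite direct images -/

set_option autoImplicit false
set_option maxHeartbeats 800000
set_option backward.isDefEq.respectTransparency false
set_option linter.style.haveILetI false
universe u

open CategoryTheory CategoryTheory.Limits AlgebraicGeometry HomologicalComplex Opposite TopologicalSpace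

attribute [local instance] HasDerivedCategory.standard

namespace GrothLib.RelPCUnb

open GrothLib.OX GrothLib.KSix19 GrothLib.RelPC

/-- Relative pseudo-coherence only depends on the isomorphism class. -/
theorem rel_congr {R A : Type u} [CommRing R] [CommRing A] [Algebra R A] {K L : Dual.D A} (e : K ≅ L) (m : ℤ) :
    DerCA.IsRelPseudoCoherent R A m K ↔ DerCA.IsRelPseudoCoherent R A m L :=
  ⟨fun ⟨n, α, hα, h⟩ => ⟨n, α, hα, (pc_congr ((DRing.restrictD _).mapIso e) m).1 h⟩,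
    fun ⟨n, α, hα, h⟩ => ⟨n, α, hα, (pc_congr ((DRing.restrictD _).mapIso e) m).2 h⟩⟩

variable {X Y S : Scheme.{u}}

/-- A model of the direct image along an affine morphism. -/
theorem isModel_rpush_affine (π : X ⟶ Y) [IsAffineHom π] [DCoh.HasRpush π] {V : Y.Opens} (hV : IsAffineOpen V)
    {E : DCoh.D X} {C : DRing.Cx Γ(X, π ⁻¹ᵁ V)}
    (hC : IsModel (B := Γ(X, π ⁻¹ᵁ V)) (hV.preimage π).fromSpec C E) :
    IsModel (B := Γ(Y, V)) hV.fromSpec ((DRing.restrictCx (π.appLE V (π ⁻¹ᵁ V) le_rfl).hom).obj C)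
      ((DCoh.Rpush π).obj E) := by
  let φ := π.appLE V (π ⁻¹ᵁ V) le_rfl
  obtain ⟨a⟩ := nonempty_resD_RR_affine π hV (hV.preimage π) E
  obtain ⟨b⟩ := nonempty_RR_tildeD φ (DRing.toD C)
  obtain ⟨eC⟩ := hC
  exact ⟨(resD hV.fromSpec).mapIso ((rpushIsoRres π).app E) ≪≫ a ≪≫
    (RR (Spec.map φ)).mapIso (eC ≪≫ ((tilde.functor Γ(X, π ⁻¹ᵁ V)).mapDerivedCategoryFactors.app C).symm) ≪≫ b ≪≫
    (DCoh.tildeD Γ(Y, V)).mapIso ((ModuleCat.restrictScalars φ.hom).mapDerivedCategoryFactors.app C) ≪≫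
    (tilde.functor Γ(Y, V)).mapDerivedCategoryFactors.app _⟩

/-- Relative pseudo-coherence is preserved and reflected by finite direct images. -/
theorem isPseudoCoherentRel_iff_rpush_of_finite (p : X ⟶ S) (q : Y ⟶ S) [LocallyOfFiniteType p]
    [LocallyOfFiniteType q] (π : X ⟶ Y) [IsFinite π] (w : π ≫ q = p) [DCoh.HasRpush π] (m : ℤ)
    (E : DCoh.D X) (hE : DCoh.IsQCohD E) :
    DerSch.IsPseudoCoherentRel p m E ↔ DerSch.IsPseudoCoherentRel q m ((DCoh.Rpush π).obj E) := by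
  subst w
  have key : ∀ (V : Y.Opens) (hV : IsAffineOpen V) (W : S.Opens) (hW : IsAffineOpen W) (hle : V ≤ q ⁻¹ᵁ W),
      ∃ (hle' : π ⁻¹ᵁ V ≤ (π ≫ q) ⁻¹ᵁ W) (n k : ℕ) (φ : MvPolynomial (Fin n) Γ(S, W) →+* Γ(Y, V))
        (γ : MvPolynomial (Fin k) Γ(S, W) →+* Γ(X, π ⁻¹ᵁ V)),
        DerSch.IsChart q V W hle φ ∧ DerSch.IsChart (π ≫ q) (π ⁻¹ᵁ V) W hle' γ ∧
          (PCOn m E (π ⁻¹ᵁ V) γ ↔ PCOn m ((DCoh.Rpush π).obj E) V φ) := by
    intro V hV W hW hle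
    have hU := hV.preimage π
    have hle' : π ⁻¹ᵁ V ≤ (π ≫ q) ⁻¹ᵁ W := fun z hz => hle hz
    obtain ⟨n, φ, hφ⟩ := exists_isChart q hV hW hle
    obtain ⟨k, γ, hγ⟩ := exists_isChart (π ≫ q) hU hW hle'
    obtain ⟨C, -, hC⟩ := exists_modelU (B := Γ(X, π ⁻¹ᵁ V)) hU.fromSpec hE
    letI : Algebra Γ(S, W) Γ(Y, V) := (q.appLE W V hle).hom.toAlgebra
    letI : Algebra Γ(Y, V) Γ(X, π ⁻¹ᵁ V) := (π.appLE V (π ⁻¹ᵁ V) le_rfl).hom.toAlgebra
    letI : Algebra Γ(S, W) Γ(X, π ⁻¹ᵁ V) := ((π ≫ q).appLE W (π ⁻¹ᵁ V) hle').hom.toAlgebra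
    haveI : IsScalarTower Γ(S, W) Γ(Y, V) Γ(X, π ⁻¹ᵁ V) := .of_algebraMap_eq' (by
      simp only [RingHom.algebraMap_toAlgebra]
      rw [← CommRingCat.hom_comp, Scheme.Hom.appLE_comp_appLE])
    haveI : Algebra.FiniteType Γ(S, W) Γ(Y, V) := q.finiteType_appLE hW hV hle
    haveI : Module.Finite Γ(Y, V) Γ(X, π ⁻¹ᵁ V) := by
      have h1 := IsFinite.finite_app π V hV
      rw [Scheme.Hom.app_eq_appLE] at h1
      exact h1
    refine ⟨hle', n, k, φ, γ, hφ, hγ, ?_⟩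
    rw [rel_iff_pcOn (π ≫ q) hU hle' rfl hγ hC,
      rel_iff_pcOn q hV hle rfl hφ (isModel_rpush_affine π hV hC),
      rel_restrict_iff_of_finite (A := Γ(Y, V))]
    exact rel_congr ((ModuleCat.restrictScalars (π.appLE V (π ⁻¹ᵁ V) le_rfl).hom).mapDerivedCategoryFactors.app C) m
  constructor
  · intro h
    refine isPseudoCoherentRel_of_local fun y => ?_
    obtain ⟨V, W, hV, hW, hy, -, hle⟩ := exists_affine_pair q (O := ⊤) (x := y) trivial
    obtain ⟨hle', n, k, φ, γ, hφ, hγ, hiff⟩ := key V hV W hW hle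
    exact ⟨V, W, hle, n, φ, hy, hV, hW, hφ, hiff.1 (pcOn_of_isPseudoCoherentRel h (hV.preimage π) hW hγ)⟩
  · intro h
    refine isPseudoCoherentRel_of_local fun x => ?_
    obtain ⟨V, W, hV, hW, hy, -, hle⟩ := exists_affine_pair q (O := ⊤) (x := π x) trivial
    obtain ⟨hle', n, k, φ, γ, hφ, hγ, hiff⟩ := key V hV W hW hle
    exact ⟨π ⁻¹ᵁ V, W, hle', k, γ, hy, hV.preimage π, hW, hγ, hiff.2 (pcOn_of_isPseudoCoherentRel h hV hW hφ)⟩

end GrothLib.RelPCUnb
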