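import Groth.Agent.Lib.RelPCUnb.Devissage
import Groth.Agent.Lib.KSix19.ModRel
import Groth.Agent.Lib.KSix19.NPCRing
import Groth.Agent.Lib.OX.PCohQCoh
import Groth.Agent.Lib.OX.ClosedPush
import Groth.Agent.Lib.FTDesc.GenOn
import Groth.Agent.Lib.RelFPSch6.Basic
import Groth.Agent.S6935

/-! # Modules pseudo-coherent in low degrees relative to a morphism -/

set_option autoImplicit false
set_option maxHeartbeats 800000
set_option backward.isDefEq.respectTransparency false
set_option backward.isDefEq.respectTransparency.types false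
set_option linter.style.haveILetI false
universe u

open CategoryTheory CategoryTheory.Limits CategoryTheory.Pretriangulated AlgebraicGeometry HomologicalComplex Opposite TopologicalSpace

attribute [local instance] HasDerivedCategory.standard

namespace GrothLib.RelPCUnb

open GrothLib.OX GrothLib.KSix19

variable {X Y : Scheme.{u}} {f : X ⟶ Y} [LocallyOfFiniteType f]

/-- A module as a complex in degree zero. -/
noncomputable def inDIsoToD (M : X.Modules) :
    DCoh.inD X M ≅ DCoh.toD X ((single X.Modules (ComplexShape.up ℤ) 0).obj M) :=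
  ((SingleFunctors.evaluation _ _ 0).mapIso (DerivedCategory.singleFunctorsPostcompQIso X.Modules)).app M

theorem rel_inD_iff {M : X.Modules} {m : ℤ} :
    DerSch.IsPseudoCoherentRel f m (DCoh.inD X M) ↔
      DerSch.IsPseudoCoherentRel f m (DCoh.toD X ((single X.Modules (ComplexShape.up ℤ) 0).obj M)) :=
  ⟨isPseudoCoherentRel_of_iso (inDIsoToD M), isPseudoCoherentRel_of_iso (inDIsoToD M).symm⟩

/-- Positive degrees. -/
theorem isPseudoCoherentRel_single_pos (M : X.Modules) {m : ℤ} (hm : 0 < m) :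
    DerSch.IsPseudoCoherentRel f m (DCoh.inD X M) :=
  isPseudoCoherentRel_of_isLE ((DerivedCategory.isLE_iff _ _).2 fun i hi =>
    GrothLib.PC.isZero_homology_single 0 i (by omega) M)

/-- The structure sheaf. -/
theorem isPseudoCoherentRel_unit_zero :
    DerSch.IsPseudoCoherentRel f 0 (DCoh.inD X (Coh.structureModule X)) := by
  refine rel_inD_iff.2 (isNPseudoCoherent_of_ring (f := f) fun x => ?_)
  obtain ⟨U, V, hU, hV, hxU, -, hle⟩ := exists_affine_pair f (O := ⊤) (x := x) trivial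
  obtain ⟨n, φ, hφ⟩ := exists_isChart f hU hV hle
  refine ⟨U, V, hle, n, φ, hxU, hU, hV, hφ, ((Groth.Agent.S6935.result _ _).1).2 ?_⟩
  exact (GrothLib.RelPC.finite_restrict_iff φ hφ.1 (ModuleCat.of Γ(X, U) Γ(X, U))).2
    (inferInstanceAs (Module.Finite Γ(X, U) Γ(X, U)))

/-- Extensions of modules. -/
theorem isPseudoCoherentRel_single_of_shortExact {S : ShortComplex X.Modules} (hS : S.ShortExact) (m : ℤ) :
    (DerSch.IsPseudoCoherentRel f m (DCoh.inD X S.X₁) → DerSch.IsPseudoCoherentRel f m (DCoh.inD X S.X₃) →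
      DerSch.IsPseudoCoherentRel f m (DCoh.inD X S.X₂)) ∧
    (DerSch.IsPseudoCoherentRel f (m + 1) (DCoh.inD X S.X₁) → DerSch.IsPseudoCoherentRel f m (DCoh.inD X S.X₂) →
      DerSch.IsPseudoCoherentRel f m (DCoh.inD X S.X₃)) :=
  ⟨(isPseudoCoherentRel_triangle f m hS.singleTriangle_distinguished).2.1,
    (isPseudoCoherentRel_triangle f m hS.singleTriangle_distinguished).1⟩

/-- Finite free modules. -/
theorem isPseudoCoherentRel_free_zero : ∀ n : ℕ,
    DerSch.IsPseudoCoherentRel f 0 (DCoh.inD X (∐ fun _ : Fin n => Coh.structureModule X))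
  | 0 => by
    refine isPseudoCoherentRel_of_isLE ((DerivedCategory.isLE_iff _ _).2 fun i _ => ?_)
    have hz : IsZero (∐ fun _ : Fin 0 => Coh.structureModule X) :=
      (IsZero.iff_id_eq_zero _).2 (Sigma.hom_ext _ _ fun k : Fin 0 => k.elim0)
    exact (DerivedCategory.homologyFunctor _ i).map_isZero
      ((DerivedCategory.singleFunctor X.Modules 0).map_isZero hz)
  | n + 1 => by
    let M := Coh.structureModule X
    let e : (∐ fun _ : Fin (n + 1) => M) ≅ M ⊞ (∐ fun _ : Fin n => M) :=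
      { hom := Sigma.desc (Fin.cases biprod.inl fun k => Sigma.ι (fun _ : Fin n => M) k ≫ biprod.inr)
        inv := biprod.desc (Sigma.ι (fun _ : Fin (n + 1) => M) 0)
          (Sigma.desc fun k => Sigma.ι (fun _ : Fin (n + 1) => M) k.succ)
        hom_inv_id := Sigma.hom_ext _ _ fun k => by
          refine Fin.cases ?_ (fun k => ?_) k <;> simp
        inv_hom_id := by
          refine biprod.hom_ext' _ _ ?_ ?_
          · simp
          · refine Sigma.hom_ext _ _ fun k => ?_
            simp }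
    let S := ShortComplex.mk (biprod.inl : M ⟶ M ⊞ (∐ fun _ : Fin n => M)) biprod.snd biprod.inl_snd
    have hS : S.ShortExact :=
      ShortComplex.Splitting.shortExact ⟨biprod.fst, biprod.inr, biprod.inl_fst, biprod.inr_snd, biprod.total⟩
    exact isPseudoCoherentRel_of_iso ((DerivedCategory.singleFunctor X.Modules 0).mapIso e.symm)
      ((isPseudoCoherentRel_single_of_shortExact hS 0).1 isPseudoCoherentRel_unit_zero
        (isPseudoCoherentRel_free_zero n))

/-- Quotients of finite free modules. -/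
theorem isPseudoCoherentRel_of_free_epi {n : ℕ} {M : X.Modules}
    (p : (∐ fun _ : Fin n => Coh.structureModule X) ⟶ M) [Epi p] :
    DerSch.IsPseudoCoherentRel f 0 (DCoh.inD X M) := by
  let S := ShortComplex.mk (kernel.ι p) p (kernel.condition p)
  have hS : S.ShortExact := { exact := S.exact_of_f_is_kernel (kernelIsKernel p) }
  exact (isPseudoCoherentRel_single_of_shortExact hS 0).2 (isPseudoCoherentRel_single_pos _ (by omega))
    (isPseudoCoherentRel_free_zero n)

/-- Finite type modules are `0`-pseudo-coherent. -/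
theorem isPseudoCoherentRel_zero_of_isFT {M : X.Modules} (hM : CohB1.IsFT M) :
    DerSch.IsPseudoCoherentRel f 0 (DCoh.inD X M) := by
  refine rel_inD_iff.2 (isPseudoCoherentRel_of_cover fun x => ?_)
  obtain ⟨W, G, hxW, hG⟩ := GrothLib.QCoh.exists_generatingSections_restrict M hM x
  haveI : Finite G.I := hG.finite
  letI : Fintype G.I := Fintype.ofFinite _
  let p : (∐ fun _ : Fin (Fintype.card G.I) => Coh.structureModule (W : Scheme.{u})) ⟶ M.restrict W.ι :=
    (Sigma.reindex (Fintype.equivFin G.I).symm (fun _ : G.I => Coh.structureModule (W : Scheme.{u}))).hom ≫ G.π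
  haveI : Epi p := @epi_comp _ _ _ _ _ _ inferInstance _ G.epi
  refine ⟨W.toScheme, W.ι, inferInstance, ⟨⟨x, hxW⟩, rfl⟩, ?_⟩
  exact isPseudoCoherentRel_of_iso (DerivedCategory.Q.mapIso
      ((singleMapHomologicalComplex (Scheme.Modules.restrictFunctor W.ι) (ComplexShape.up ℤ) 0).app M).symm)
    (rel_inD_iff.1 (isPseudoCoherentRel_of_free_epi (f := W.ι ≫ f) p))

/-- `0`-pseudo-coherent modules are of finite type. -/
theorem isFT_of_isPseudoCoherentRel_zero {M : X.Modules}
    (h : DerSch.IsPseudoCoherentRel f 0 (DCoh.inD X M)) : CohB1.IsFT M := by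
  refine GrothLib.FTDesc.isFiniteType_of_genOn M fun x => ?_
  obtain ⟨U, V, hU, hV, hxU, -, hle⟩ := exists_affine_pair f (O := ⊤) (x := x) trivial
  obtain ⟨n, φ, hφ⟩ := exists_isChart f hU hV hle
  haveI := isClosedImmersion_immOf hU hφ.1
  let i := immOf U φ
  let N := (Scheme.Modules.restrictFunctor U.ι).obj M
  obtain ⟨eS⟩ := nonempty_resD_single U.ι M
  let a : (pushD i).obj ((resD U.ι).obj (DCoh.toD X ((single X.Modules (ComplexShape.up ℤ) 0).obj M))) ≅
      DerivedCategory.Q.obj ((single _ (ComplexShape.up ℤ) 0).obj ((Scheme.Modules.pushforward i).obj N)) :=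
    (pushD i).mapIso eS ≪≫ pushDFac i _ ≪≫ DerivedCategory.Q.mapIso
      ((singleMapHomologicalComplex (Scheme.Modules.pushforward i) (ComplexShape.up ℤ) 0).app _)
  have hpc := isPseudoCoherentD_of_iso
    ((pcOn_iff_pushD hU hφ.1).1 (pcOn_of_isPseudoCoherentRel (rel_inD_iff.1 h) hU hV hφ)) a
  have hz : ∀ k : ℤ, 0 < k → IsZero (DCoh.HD (DerivedCategory.Q.obj
      ((single _ (ComplexShape.up ℤ) 0).obj ((Scheme.Modules.pushforward i).obj N))) k) := fun k hk =>
    (isZero_single_obj_homology _ 0 _ k (by omega)).of_iso (hdIso _ k)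
  let e0 := hdIso ((single _ (ComplexShape.up ℤ) 0).obj ((Scheme.Modules.pushforward i).obj N)) 0 ≪≫
    singleObjHomologySelfIso (ComplexShape.up ℤ) 0 ((Scheme.Modules.pushforward i).obj N)
  have hft : CohB1.IsFT ((Scheme.Modules.pushforward i).obj N) :=
    GrothLib.FTDesc.isFiniteType_of_genOn _ fun y => by
      obtain ⟨W, ι, _, m, hyW, hgen⟩ := GrothLib.HomSh.exists_genOn _ (isFT_HD_top hpc hz) y
      refine ⟨W, ι, inferInstance, fun k => e0.hom.app W (m k), hyW, fun z hz => eq_top_iff.2 fun v _ => ?_⟩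
      obtain ⟨w, rfl⟩ := QCoh.stalkLin_surjective e0.hom z v
      have hw := Submodule.mem_map_of_mem (f := QCoh.stalkLin e0.hom z) ((hgen z hz).ge (Submodule.mem_top (x := w)))
      rw [Submodule.map_span, ← Set.range_comp] at hw
      refine Submodule.span_mono ?_ hw
      rintro _ ⟨k, rfl⟩
      exact ⟨k, (QCoh.stalkLin_germ e0.hom (U := W) hz (m k)).symm⟩
  obtain ⟨W, ι, _, m, hyW, hgen⟩ := GrothLib.HomSh.exists_genOn _ hft (i ⟨x, hxU⟩)
  refine ⟨U.ι ''ᵁ (i ⁻¹ᵁ W), ι, inferInstance, m, ⟨⟨x, hxU⟩, hyW, rfl⟩, ?_⟩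
  rintro _ ⟨z, hz', rfl⟩
  let e := (Scheme.Modules.restrictStalkNatIso U.ι z).app M
  let ψ : (M.restrict U.ι).presheaf.stalk z →+ M.presheaf.stalk (U.ι z) := e.hom.hom
  have hψ : ∀ (O : (U : Scheme.{u}).Opens) (hO : z ∈ O) (t : Γ(M.restrict U.ι, O)),
      ψ ((M.restrict U.ι).presheaf.germ O z hO t) = M.presheaf.germ (U.ι ''ᵁ O) (U.ι z) ⟨z, hO, rfl⟩ t :=
    fun O hO t => ConcreteCategory.congr_hom
      (Scheme.Modules.germ_restrictStalkNatIso_hom_app U.ι z M (U := O) hO) t
  refine eq_top_iff.2 fun v hv => ?_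
  clear hv
  obtain ⟨w, rfl⟩ : ∃ w, ψ w = v := (ConcreteCategory.bijective_of_isIso e.hom).2 v
  obtain ⟨a', rfl⟩ := (QCoh.pushStalkHom_bijective i z N i.isClosedEmbedding.isEmbedding.isInducing).2 w
  have ha := (hgen (i z) hz').ge (Submodule.mem_top (x := a'))
  have hsm : ∀ (c : (U : Scheme.{u}).presheaf.stalk z) (w : (M.restrict U.ι).presheaf.stalk z),
      ∃ c' : X.presheaf.stalk (U.ι z), ψ (c • w) = c' • ψ w := by
    intro c w
    obtain ⟨O, hO, r, rfl⟩ := TopCat.Presheaf.exists_germ_eq (U : Scheme.{u}).presheaf c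
    obtain ⟨O', hO', t, rfl⟩ := TopCat.Presheaf.exists_germ_eq (M.restrict U.ι).presheaf w
    have hOO : z ∈ O ⊓ O' := ⟨hO, hO'⟩
    rw [← TopCat.Presheaf.germ_res_apply (U : Scheme.{u}).presheaf (homOfLE (inf_le_left : O ⊓ O' ≤ O)) z hOO r,
      ← TopCat.Presheaf.germ_res_apply (M.restrict U.ι).presheaf (homOfLE (inf_le_right : O ⊓ O' ≤ O')) z hOO t,
      ← Mero.germ_smul]
    refine ⟨X.presheaf.germ (U.ι ''ᵁ (O ⊓ O')) (U.ι z) ⟨z, hOO, rfl⟩
      (show Γ(X, U.ι ''ᵁ (O ⊓ O')) from (U : Scheme.{u}).presheaf.map (homOfLE inf_le_left).op r), ?_⟩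
    rw [hψ (O ⊓ O') hOO ((M.restrict U.ι).presheaf.map _ t)]
    exact GrothLib.FTDesc.restrictStalk_germ_smul M U (O ⊓ O') z hOO _ _
  induction ha using Submodule.span_induction with
  | mem b hb =>
    obtain ⟨k, rfl⟩ := hb
    refine Submodule.subset_span ⟨k, ?_⟩
    exact ((congrArg ψ (QCoh.pushStalkHom_germ i z N W hz' (m k))).trans (hψ (i ⁻¹ᵁ W) hz' (m k))).symm
  | zero => rw [map_zero, map_zero]; exact zero_mem _
  | add b b' _ _ hb hb' => rw [map_add, map_add]; exact add_mem hb hb'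
  | smul c b _ hb =>
    rw [map_smul]
    obtain ⟨c', hc'⟩ := hsm ((i.stalkMap z).hom c) ((QCoh.pushStalkHom i z N).hom b)
    refine (show ψ ((i.stalkMap z).hom c • (QCoh.pushStalkHom i z N).hom b) ∈ _ from ?_)
    rw [hc']
    exact Submodule.smul_mem _ _ hb

/-- `(-1)`-pseudo-coherent modules. -/
theorem isPseudoCoherentRel_negOne_iff {M : X.Modules} :
    DerSch.IsPseudoCoherentRel f (-1) (DCoh.inD X M) ↔ (M.IsQuasicoherent ∧ Flatn.IsRelFP f M) := by
  refine ⟨fun h => ?_, fun ⟨hq, hfp⟩ => ?_⟩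
  · have hq : M.IsQuasicoherent := isQuasicoherent_of_rel (by omega) (rel_inD_iff.1 h)
    refine ⟨hq, RelFPSch6.isRelFP_of_forall fun U V hle => ?_⟩
    obtain ⟨n, φ, hφ⟩ := exists_isChart f U.2 V.2 hle
    have hqU : ((Scheme.Modules.restrictFunctor U.2.fromSpec).obj M).IsQuasicoherent :=
      inferInstanceAs (M.restrict U.2.fromSpec).IsQuasicoherent
    rw [Flatn.relFPOn_iff]
    letI := (f.appLE V U hle).hom.toAlgebra
    refine ⟨n, { toRingHom := φ, commutes' := fun a => DFunLike.congr_fun hφ.2 a }, hφ.1, ?_⟩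
    exact (Groth.Agent.S6935.result (MvPolynomial (Fin n) Γ(Y, (V : Y.Opens)))
        ((ModuleCat.restrictScalars.{u} φ).obj (ModuleCat.of Γ(X, (U : X.Opens)) Γ(M, (U : X.Opens))))).2.1
      ((pcOn_single_iff U.2 hφ.1 M hqU).1 (pcOn_of_isPseudoCoherentRel (rel_inD_iff.1 h) U.2 V.2 hφ))
  · have hall := RelFPSch6.isRelFP_iff_forall.1 hfp
    refine rel_inD_iff.2 (isPseudoCoherentRel_of_local fun x => ?_)
    obtain ⟨U, V, hU, hV, hxU, -, hle⟩ := exists_affine_pair f (O := ⊤) (x := x) trivial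
    have hp := hall ⟨U, hU⟩ ⟨V, hV⟩ hle
    rw [Flatn.relFPOn_iff] at hp
    letI := (f.appLE V U hle).hom.toAlgebra
    obtain ⟨n, φ, hφ, hfp'⟩ := hp
    have hqU : ((Scheme.Modules.restrictFunctor hU.fromSpec).obj M).IsQuasicoherent :=
      inferInstanceAs (M.restrict hU.fromSpec).IsQuasicoherent
    refine ⟨U, V, hle, n, φ.toRingHom, hxU, hU, hV, ⟨hφ, RingHom.ext fun a => φ.commutes a⟩,
      (pcOn_single_iff hU hφ M hqU).2 ?_⟩
    exact (Groth.Agent.S6935.result (MvPolynomial (Fin n) Γ(Y, V))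
      ((ModuleCat.restrictScalars.{u} φ.toRingHom).obj (ModuleCat.of Γ(X, U) Γ(M, U)))).2.2 hfp'

end GrothLib.RelPCUnb
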