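import Groth.Agent.Lib.RelPC.Flat
import Groth.Agent.Lib.RelPC.MapPoly
import Groth.Agent.Lib.RelPC.Transport
import Groth.Agent.Lib.RelPC.BaseChange
import Groth.Agent.Lib.KSix19.FlatPC
import Groth.Agent.Lib.KSix19.RelPCModel
import Groth.Agent.Lib.DCxRing.TorLocalMax
import Groth.Agent.Lib.DCxRing.Devissage
import Groth.Agent.Lib.DCxRing.Descent
import Groth.Agent.Lib.DCxRing.TorIndepSquare
import Groth.Agent.Lib.PerfHom.Examples
import Mathlib.RingTheory.Etale.StandardEtale
import Mathlib.RingTheory.Unramified.LocalStructure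
import Mathlib.RingTheory.Spectrum.Prime.Chevalley

/-! # Relative pseudo-coherence and fppf covers of the algebra -/

set_option autoImplicit false
set_option maxHeartbeats 800000
set_option backward.isDefEq.respectTransparency false
set_option linter.style.haveILetI false
universe u

open CategoryTheory CategoryTheory.Limits
open scoped TensorProduct

attribute [local instance] HasDerivedCategory.standard

namespace GrothLib.RelPCUnb

open GrothLib.RelPC

section Tower

variable {R B B' D : Type u} [CommRing R] [CommRing B] [CommRing B'] [CommRing D]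
  [Algebra B B'] [Algebra B D] [Algebra B' D] [IsScalarTower B B' D]

/-- A map between flat finitely presented algebras is pseudo-coherent. -/
theorem relModuleAll_flatBase [Module.Flat B B'] [Algebra.FinitePresentation B B'] [Module.Flat B D]
    [Algebra.FinitePresentation B D] : DerCA.IsRelPseudoCoherentModuleAll B' D D := by
  haveI : Algebra.FinitePresentation B' D :=
    Algebra.FinitePresentation.of_restrict_scalars_finitePresentation B B' D
  obtain ⟨k, α, hα⟩ := exists_pres (R := B') (A := D)
  intro m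
  refine ⟨k, α, hα, (pcModule_restrict_iff (α : MvPolynomial (Fin k) B' →+* D) D m).2 ?_⟩
  letI : Algebra (MvPolynomial (Fin k) B') D := (α : MvPolynomial (Fin k) B' →+* D).toAlgebra
  haveI : IsScalarTower B' (MvPolynomial (Fin k) B') D := .of_algebraMap_eq fun b => (α.commutes b).symm
  haveI : IsScalarTower B (MvPolynomial (Fin k) B') D := .of_algebraMap_eq fun b => by
    rw [IsScalarTower.algebraMap_apply B B' D b, IsScalarTower.algebraMap_apply B B' (MvPolynomial (Fin k) B'),
      ← IsScalarTower.algebraMap_apply B' (MvPolynomial (Fin k) B') D]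
  haveI : Algebra.FinitePresentation B (MvPolynomial (Fin k) B') := .trans B B' _
  haveI : Module.Flat B (MvPolynomial (Fin k) B') := Module.Flat.trans B B' _
  haveI : Module.FinitePresentation (MvPolynomial (Fin k) B') D :=
    Module.finitePresentation_of_surjective (Algebra.linearMap (MvPolynomial (Fin k) B') D) hα
      (Algebra.FinitePresentation.ker_fG_of_surjective α hα)
  exact KSix19.isPseudoCoherentModule_flatFP (A := B) { carrier := D } m

/-- Relative pseudo-coherence passes along maps of flat covers. -/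
theorem rel_bc_of_tower [Algebra R B] [Algebra R B'] [Algebra R D] [IsScalarTower R B B'] [IsScalarTower R B' D]
    [Algebra.FiniteType R B] [Module.Flat B B'] [Algebra.FinitePresentation B B'] [Module.Flat B D]
    [Algebra.FinitePresentation B D] {C : DRing.Cx B} (hC : KF.IsKFlat C) {m : ℤ}
    (h : DerCA.IsRelPseudoCoherent R B' m (DRing.toD ((DR.bc (algebraMap B B')).obj C))) :
    DerCA.IsRelPseudoCoherent R D m (DRing.toD ((DR.bc (algebraMap B D)).obj C)) := by
  haveI : Algebra.FiniteType R B' := Algebra.FiniteType.trans (S := B) inferInstance inferInstance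
  haveI : Algebra.FinitePresentation B' D :=
    Algebra.FinitePresentation.of_restrict_scalars_finitePresentation B B' D
  haveI := KF.hasLBaseChange (algebraMap B' D)
  obtain ⟨v⟩ := KF.lBase_value (algebraMap B' D) (KF.isKFlat_bc (φ := algebraMap B B') hC)
  exact rel_iso (v ≪≫ DerivedCategory.Q.mapIso ((DR.bcCompIso _ _ C).symm ≪≫
      eqToIso (congrArg (fun ψ => (DR.bc ψ).obj C) (IsScalarTower.algebraMap_eq B B' D).symm)))
    (rel_lBaseChange (relModuleAll_flatBase (B := B)) _ m h)

end Tower

section Retract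

/-- Retracts of complexes of pseudo-coherent restriction are pseudo-coherent. -/
theorem pc_of_retract {P : Type u} [CommRing P] {X Y : DRing.Cx P} (s : X ⟶ Y) (r : Y ⟶ X) (hsr : s ≫ r = 𝟙 X)
    {m : ℤ} (h : DRing.IsPseudoCoherent P m (DRing.toD Y)) : DRing.IsPseudoCoherent P m (DRing.toD X) := by
  haveI : Epi r := SplitEpi.epi ⟨s, hsr⟩
  let S := ShortComplex.mk (kernel.ι r) r (kernel.condition r)
  have hS : S.Exact := S.exact_of_f_is_kernel (kernelIsKernel r)
  haveI : PreservesBinaryBiproducts (DerivedCategory.Q : DRing.Cx P ⥤ _) :=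
    preservesBinaryBiproducts_of_preservesBiproducts _
  let σ := ShortComplex.Splitting.ofExactOfSection S hS s hsr (inferInstanceAs (Mono (kernel.ι r)))
  let e : DRing.toD Y ≅ DRing.toD (kernel r) ⊞ DRing.toD X :=
    DerivedCategory.Q.mapIso σ.isoBinaryBiproduct ≪≫ DerivedCategory.Q.mapBiprod _ _
  exact (DR.isPseudoCoherent_of_biprod _ _ m (DerBC.isPseudoCoherent_of_iso e h)).2

variable {R B D : Type u} [CommRing R] [CommRing B] [CommRing D] [Algebra R B] [Algebra B D] [Algebra R D]
  [IsScalarTower R B D]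

/-- Descent along finite algebras in which the base is a direct summand. -/
theorem rel_of_finite_retract [Algebra.FiniteType R B] [Module.Finite B D] (r : D →ₗ[B] B) (hr : r 1 = 1)
    {C : DRing.Cx B} {m : ℤ} (h : DerCA.IsRelPseudoCoherent R D m (DRing.toD ((DR.bc (algebraMap B D)).obj C))) :
    DerCA.IsRelPseudoCoherent R B m (DRing.toD C) := by
  let F := ModuleCat.extendScalars.{u, u, u} (algebraMap B D)
  let G := ModuleCat.restrictScalars.{u} (algebraMap B D)
  let η : 𝟭 (ModuleCat.{u} B) ⟶ F ⋙ G := (ModuleCat.extendRestrictScalarsAdj.{u} (algebraMap B D)).unit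
  let D' := G.obj (ModuleCat.of D D)
  let r' : D' →ₗ[B] B :=
    { toFun := fun d => r (show D from d)
      map_add' := fun a b => r.map_add (show D from a) (show D from b)
      map_smul' := fun b d => by
        change r (algebraMap B D b * (show D from d)) = b • r (show D from d)
        rw [← Algebra.smul_def, map_smul] }
  let lam : ∀ M : ModuleCat.{u} B, (D' ⊗[B] M) →ₗ[B] M := fun M =>
    (TensorProduct.lid B M).toLinearMap.comp (LinearMap.rTensor M r')
  have hlam : ∀ (M : ModuleCat.{u} B) (d : D') (x : M), lam M (d ⊗ₜ x) = r' d • x := fun _ _ _ => rfl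
  let ρ : F ⋙ G ⟶ 𝟭 (ModuleCat.{u} B) :=
    { app := fun M => ModuleCat.ofHom (X := G.obj (F.obj M)) (Y := M)
        { toFun := lam M
          map_add' := (lam M).map_add
          map_smul' := fun b (z : D' ⊗[B] M) => by
            change lam M ((algebraMap B D b) • z) = b • lam M z
            induction z using TensorProduct.induction_on with
            | zero => rw [smul_zero, map_zero, smul_zero]
            | tmul d x =>
              change lam M (((algebraMap B D b) • (d : D')) ⊗ₜ x) = _
              rw [hlam, hlam, ← mul_smul]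
              exact congrArg (· • x) (r'.map_smul b d)
            | add x y hx hy => rw [smul_add, map_add, hx, hy, map_add, smul_add] }
      naturality := fun M N f => by
        refine ModuleCat.hom_ext (LinearMap.ext fun (z : D' ⊗[B] M) => ?_)
        change lam N (LinearMap.lTensor D' f.hom z) = f.hom (lam M z)
        induction z using TensorProduct.induction_on with
        | zero => simp
        | tmul d x => rw [LinearMap.lTensor_tmul, hlam, hlam, map_smul]
        | add x y hx hy => rw [map_add, map_add, hx, hy, map_add, map_add] }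
  have hηρ : ∀ M, η.app M ≫ ρ.app M = 𝟙 M := fun M => ModuleCat.hom_ext (LinearMap.ext fun x => by
    change lam M (((1 : D) : D') ⊗ₜ[B] x) = x
    rw [hlam]
    change r 1 • x = x
    rw [hr, one_smul])
  let R' := (DRing.restrictCx (algebraMap B D)).obj ((DR.bc (algebraMap B D)).obj C)
  let s₁ : C ⟶ R' :=
    { f := fun i => η.app (C.X i)
      comm' := fun i j _ => (η.naturality (C.d i j)).symm }
  let r₁ : R' ⟶ C :=
    { f := fun i => ρ.app (C.X i)
      comm' := fun i j _ => (ρ.naturality (C.d i j)).symm }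
  have hsr : s₁ ≫ r₁ = 𝟙 C := HomologicalComplex.hom_ext _ _ fun i => hηρ _
  obtain ⟨n, α, hα⟩ := exists_pres (R := R) (A := B)
  have h₁ := (rel_iff α hα _ m).1 (rel_iso ((ModuleCat.restrictScalars (algebraMap B D)).mapDerivedCategoryFactors.app
    ((DR.bc (algebraMap B D)).obj C)) ((rel_restrict_iff_of_finite (A := B) _ m).1 h))
  let G₁ := DRing.restrictCx (α : MvPolynomial (Fin n) R →+* B)
  let Fα := (ModuleCat.restrictScalars.{u} (α : MvPolynomial (Fin n) R →+* B)).mapDerivedCategoryFactors
  refine (rel_iff α hα _ m).2 (DerBC.isPseudoCoherent_of_iso (Fα.app C).symm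
    (pc_of_retract (G₁.map s₁) (G₁.map r₁) ?_ (DerBC.isPseudoCoherent_of_iso (Fα.app R') h₁)))
  rw [← G₁.map_comp, hsr, G₁.map_id]

end Retract

section Etale

variable {A B B₁ : Type u} [CommRing A] [CommRing B] [CommRing B₁] [Algebra A B] [Algebra B B₁] [Algebra A B₁]
  [IsScalarTower A B B₁]

/-- Etale descent of pseudo-coherence through a presentation, near a prime. -/
theorem exists_pc_away_of_etale [Algebra.FiniteType A B] [Algebra.Etale B B₁] {n : ℕ}
    (φ : MvPolynomial (Fin n) A →ₐ[A] B) (hφ : Function.Surjective φ) (q : Ideal B₁) [q.IsPrime]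
    (C : DRing.Cx B) {m : ℤ}
    (h : DerCA.IsRelPseudoCoherent A B₁ m (DRing.toD ((DR.bc (algebraMap B B₁)).obj C))) :
    ∃ G : MvPolynomial (Fin n) A, φ G ∉ q.comap (algebraMap B B₁) ∧
      DRing.IsPseudoCoherent (Localization.Away G) m
        (DRing.toD ((DR.bc (algebraMap (MvPolynomial (Fin n) A) (Localization.Away G))).obj
          ((DRing.restrictCx (φ : MvPolynomial (Fin n) A →+* B)).obj C))) := by
  haveI : Algebra.IsEtaleAt B q := Algebra.FormallyEtale.comp B B₁ (Localization.AtPrime q)
  obtain ⟨f, hfq, hfse⟩ := Algebra.IsEtaleAt.exists_isStandardEtale (R := B) q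
  let L := Localization.Away f
  obtain ⟨pres⟩ : Nonempty (StandardEtalePresentation B L) := Algebra.IsStandardEtale.nonempty_standardEtalePresentation
  let P := MvPolynomial (Fin n) A
  let φ' : P →+* B := φ
  letI : Algebra P B := φ'.toAlgebra
  haveI : IsScalarTower A P B := .of_algebraMap_eq fun a => (φ.commutes a).symm
  obtain ⟨fl, hfl, -, hfm⟩ := Polynomial.lifts_and_natDegree_eq_and_monic
    (Polynomial.mem_lifts_of_surjective (f := φ') hφ pres.f) pres.monic_f
  obtain ⟨gl, hgl⟩ := Polynomial.map_surjective φ' hφ pres.g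
  let pP : StandardEtalePair P :=
    { f := fl
      monic_f := hfm
      g := gl * Polynomial.derivative fl
      cond := ⟨gl, 0, 1, by rw [pow_one, mul_comm]; ring⟩ }
  let T := pP.Ring
  letI : Algebra P L := ((algebraMap B L).comp φ').toAlgebra
  haveI : IsScalarTower P B L := .of_algebraMap_eq fun _ => rfl
  have hev : ∀ {S : Type u} [CommRing S] [Algebra B S] [Algebra P S] [IsScalarTower P B S] (x : S)
      (p : Polynomial P), Polynomial.aeval x (p.map φ') = Polynomial.aeval x p :=
    fun x p => Polynomial.aeval_map_algebraMap B x p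
  have hx : pP.HasMap pres.x := by
    refine ⟨?_, ?_⟩
    · rw [← hev, hfl]; exact pres.hasMap.1
    · rw [map_mul, ← hev, hgl, ← hev pres.x (Polynomial.derivative fl), ← Polynomial.derivative_map, hfl]
      exact pres.hasMap.2.mul pres.hasMap.isUnit_derivative_f
  let ψ : T →ₐ[P] L := pP.lift pres.x hx
  letI : Algebra T L := ψ.toRingHom.toAlgebra
  haveI : IsScalarTower P T L := .of_algebraMap_eq fun a => (ψ.commutes a).symm
  letI : Algebra P (B ⊗[P] T) := inferInstance
  have hX' : pres.P.HasMap ((1 : B) ⊗ₜ[P] pP.X) := by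
    have hm : pP.HasMap ((1 : B) ⊗ₜ[P] pP.X) :=
      StandardEtalePair.hasMap_X.map (Algebra.TensorProduct.includeRight : T →ₐ[P] B ⊗[P] T)
    refine ⟨?_, ?_⟩
    · rw [← hfl, hev]; exact hm.1
    · rw [← hgl, hev]
      have := hm.2
      rw [map_mul] at this
      exact isUnit_of_mul_isUnit_left this
  let ι₁ : B ⊗[P] T →ₐ[B] L := Algebra.TensorProduct.lift (Algebra.ofId B L) ψ fun _ _ => .all _ _
  let ι₂ : L →ₐ[B] B ⊗[P] T :=
    (pres.P.lift _ hX').comp pres.equivRing.toAlgHom
  have hι₂x : ι₂ pres.x = (1 : B) ⊗ₜ[P] pP.X := by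
    change pres.P.lift _ hX' (pres.equivRing pres.x) = _
    rw [StandardEtalePresentation.equivRing_x, StandardEtalePair.lift_X]
  have h12 : ι₁.comp ι₂ = AlgHom.id B L := by
    refine AlgHom.ext fun z => ?_
    have : (ι₁.comp ι₂).comp pres.equivRing.symm.toAlgHom = pres.equivRing.symm.toAlgHom :=
      StandardEtalePair.hom_ext (by
        change ι₁ (ι₂ (pres.equivRing.symm pres.P.X)) = pres.equivRing.symm pres.P.X
        rw [StandardEtalePresentation.equivRing_symm_X, hι₂x]
        simp [ι₁, ψ]
        exact pP.lift_X _ hx)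
    simpa using DFunLike.congr_fun this (pres.equivRing z)
  have h21 : ι₂.comp ι₁ = AlgHom.id B (B ⊗[P] T) := by
    refine Algebra.TensorProduct.ext (Subsingleton.elim _ _) (StandardEtalePair.hom_ext ?_)
    change ι₂ (ι₁ ((1 : B) ⊗ₜ[P] pP.X)) = (1 : B) ⊗ₜ[P] pP.X
    rw [show ι₁ ((1 : B) ⊗ₜ[P] pP.X) = pres.x by simp [ι₁, ψ]; exact pP.lift_X _ hx, hι₂x]
  let eι : B ⊗[P] T ≃ₐ[B] L := AlgEquiv.ofAlgHom ι₁ ι₂ h12 h21
  haveI hpush : Algebra.IsPushout P B T L := by
    refine ⟨IsBaseChange.of_equiv eι.toLinearEquiv fun t => ?_⟩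
    simp [eι, ι₁]
    rfl
  have hψs : Function.Surjective ψ := by
    intro z
    obtain ⟨w, rfl⟩ := eι.surjective z
    induction w using TensorProduct.induction_on with
    | zero => exact ⟨0, by simp⟩
    | tmul b t =>
      obtain ⟨p, rfl⟩ := hφ b
      refine ⟨algebraMap P T p * t, ?_⟩
      rw [map_mul, AlgHom.commutes]
      simp [eι, ι₁]
      rfl
    | add a b ha hb =>
      obtain ⟨a', ha'⟩ := ha
      obtain ⟨b', hb'⟩ := hb
      exact ⟨a' + b', by rw [map_add, map_add, ha', hb']⟩
  have hflat : Module.Flat B₁ L := IsLocalization.flat _ (Submonoid.powers f)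
  haveI : Algebra.FiniteType A B₁ := Algebra.FiniteType.trans (S := B) inferInstance inferInstance
  haveI : Algebra.FiniteType B₁ L := IsLocalization.finiteType_of_monoid_fg (Submonoid.powers f) _
  have hL : DerCA.IsRelPseudoCoherent A L m (DRing.toD ((DR.bc (algebraMap B L)).obj C)) :=
    rel_iso (DerivedCategory.Q.mapIso ((DR.bcCompIso _ _ C).symm ≪≫
        eqToIso (congrArg (fun ψ => (DR.bc ψ).obj C) (IsScalarTower.algebraMap_eq B B₁ L).symm)))
      (rel_bc_of_flat (relPC_away f) _ m h)
  obtain ⟨k, ε, hε⟩ := exists_pres (R := P) (A := T)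
  let e := (MvPolynomial.renameEquiv A finSumFinEquiv.symm).trans (MvPolynomial.sumAlgEquiv A (Fin k) (Fin n))
  let θ : MvPolynomial (Fin (k + n)) A →+* T :=
    (ε : MvPolynomial (Fin k) P →+* T).comp (e.toRingEquiv : MvPolynomial (Fin (k + n)) A →+* _)
  have hθs : Function.Surjective θ := hε.comp e.toRingEquiv.surjective
  have hθ : DR.RingPseudoCoherent θ := ringPC_comp (ringPC_equiv _) (PHom.ringPC_pres PHom.of_flat ε hε)
  let γ : MvPolynomial (Fin (k + n)) A →ₐ[A] L :=
    { toRingHom := (ψ : T →+* L).comp θ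
      commutes' := fun a => by
        change ψ (ε (e (algebraMap A (MvPolynomial (Fin (k + n)) A) a))) = algebraMap A L a
        rw [e.commutes, IsScalarTower.algebraMap_apply A P (MvPolynomial (Fin k) P), ε.commutes, ψ.commutes]
        change algebraMap B L (φ (algebraMap A P a)) = _
        rw [φ.commutes, ← IsScalarTower.algebraMap_apply] }
  have hT := (pc_restrict_comp hθ (χ := (γ : MvPolynomial (Fin (k + n)) A →+* L)) (ψ := (ψ : T →+* L)) rfl _ m).1
    ((rel_iff γ (hψs.comp hθs) _ m).1 hL)
  let σ : P →+* T := algebraMap P T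
  have hw : (algebraMap B L).comp φ' = (ψ : T →+* L).comp σ := RingHom.ext fun a => (ψ.commutes a).symm
  obtain ⟨hsq, hpo⟩ := KSix19.isPushoutHom_of_isPushout (φ := φ') (σ := σ) (g := algebraMap B L)
    (φ' := (ψ : T →+* L)) (CommRingCat.isPushout_of_isPushout P B T L)
  haveI := DR.isIso_canCx hsq hpo C
  let X := (DRing.restrictCx φ').obj C
  have hX : DRing.IsPseudoCoherent T m (DRing.toD ((DR.bc σ).obj X)) :=
    DerBC.isPseudoCoherent_of_iso ((ModuleCat.restrictScalars (ψ : T →+* L)).mapDerivedCategoryFactors.app _ ≪≫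
      (DerivedCategory.Q.mapIso (asIso (DR.canCx hsq C))).symm) hT
  let qL : Ideal L := q.map (algebraMap B₁ L)
  haveI hqL : qL.IsPrime := IsLocalization.isPrime_of_isPrime_disjoint (Submonoid.powers f) _ _ ‹_›
    ((Ideal.disjoint_powers_iff_notMem_of_isPrime f).2 hfq)
  have hqL' : qL.comap (algebraMap B₁ L) = q :=
    IsLocalization.comap_map_of_isPrime_disjoint (Submonoid.powers f) _ ‹_›
      ((Ideal.disjoint_powers_iff_notMem_of_isPrime f).2 hfq)
  let t₀ : PrimeSpectrum T := PrimeSpectrum.comap (ψ : T →+* L) ⟨qL, hqL⟩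
  let p₀ : PrimeSpectrum P := PrimeSpectrum.comap φ' ⟨q.comap (algebraMap B B₁), inferInstance⟩
  have ht₀ : PrimeSpectrum.comap σ t₀ = p₀ := by
    refine PrimeSpectrum.ext ?_
    change (qL.comap (ψ : T →+* L)).comap σ = (q.comap (algebraMap B B₁)).comap φ'
    rw [Ideal.comap_comap, ← hw, IsScalarTower.algebraMap_eq B B₁ L, ← hqL', Ideal.comap_comap, Ideal.comap_comap]
    rfl
  have hopen : IsOpen (Set.range (PrimeSpectrum.comap σ)) :=
    (PrimeSpectrum.isOpenMap_comap_of_hasGoingDown_of_finitePresentation (R := P) (S := T)).isOpen_range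
  obtain ⟨_, ⟨G, rfl⟩, hG₀, hGr⟩ := PrimeSpectrum.isTopologicalBasis_basic_opens.exists_subset_of_mem_open
    (show p₀ ∈ Set.range (PrimeSpectrum.comap σ) from ⟨t₀, ht₀⟩) hopen
  refine ⟨G, hG₀, ?_⟩
  let PG := Localization.Away G
  let TG := Localization.Away (σ G)
  let ιP : P →+* PG := algebraMap P PG
  let ιT : T →+* TG := algebraMap T TG
  have hu : IsUnit ((ιT.comp σ) G) := IsLocalization.Away.algebraMap_isUnit (S := TG) (σ G)
  let σG : PG →+* TG := IsLocalization.Away.lift G hu
  have hσG : σG.comp ιP = ιT.comp σ := IsLocalization.Away.lift_comp G hu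
  letI : Algebra PG TG := σG.toAlgebra
  haveI : IsScalarTower P PG TG := .of_algebraMap_eq' hσG.symm
  haveI : Module.Flat T TG := IsLocalization.flat _ (Submonoid.powers (σ G))
  haveI : Module.Flat P TG := Module.Flat.trans P T TG
  haveI : Module.Flat PG TG := (Module.flat_iff_of_isLocalization PG (Submonoid.powers G) TG).2 inferInstance
  haveI : Module.FaithfullyFlat PG TG := Module.FaithfullyFlat.of_comap_surjective fun p' => by
    have hp' : PrimeSpectrum.comap ιP p' ∈ (PrimeSpectrum.basicOpen G : Set (PrimeSpectrum P)) := by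
      rw [← PrimeSpectrum.localization_away_comap_range PG G]; exact ⟨p', rfl⟩
    obtain ⟨t, ht⟩ := hGr hp'
    have ht' : t ∈ (PrimeSpectrum.basicOpen (σ G) : Set (PrimeSpectrum T)) := fun hm => by
      apply hp'
      rw [← ht]
      exact hm
    rw [← PrimeSpectrum.localization_away_comap_range TG (σ G)] at ht'
    obtain ⟨t', rfl⟩ := ht'
    refine ⟨t', PrimeSpectrum.localization_comap_injective PG (Submonoid.powers G) ?_⟩
    rw [← ht, ← PrimeSpectrum.comap_comp_apply, ← PrimeSpectrum.comap_comp_apply]
    exact congrArg (fun χ => PrimeSpectrum.comap χ t') hσG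
  refine (Groth.Agent.S6941.result (R := PG) (R' := TG) _ m).1 ?_
  exact DerBC.isPseudoCoherent_of_iso (DerivedCategory.Q.mapIso ((DR.bcCompIso σ ιT X).symm ≪≫
      eqToIso (congrArg (fun χ => (DR.bc χ).obj X) hσG.symm) ≪≫ DR.bcCompIso ιP σG X))
    (KSix19.isPseudoCoherent_bc_flat ιT DR.flat_algebraMap hX)

end Etale

end GrothLib.RelPCUnb
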