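import Groth.Agent.Lib.RelPCUnb.Family
import Groth.Agent.Lib.RelPCUnb.Rel
import Groth.Agent.Lib.FppfRefine.Chart
import Groth.Agent.Lib.KSix19.ChartIndep

/-! # Relative pseudo-coherence is fppf local on the source -/

set_option autoImplicit false
set_option maxHeartbeats 1600000
set_option backward.isDefEq.respectTransparency false
set_option linter.style.haveILetI false
universe u

open CategoryTheory CategoryTheory.Limits AlgebraicGeometry HomologicalComplex Opposite TopologicalSpace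
open scoped TensorProduct

attribute [local instance] HasDerivedCategory.standard

namespace GrothLib.RelPCUnb

open GrothLib.OX GrothLib.KSix19 GrothLib.RelPC

/-- Pseudo-coherence of a restriction is local on the quotient. -/
theorem pc_of_local_away {P B : Type u} [CommRing P] [CommRing B] (φ : P →+* B) (hφ : Function.Surjective φ)
    (C : DRing.Cx B) {m : ℤ}
    (h : ∀ 𝔮 : Ideal B, 𝔮.IsPrime → ∃ G : P, φ G ∉ 𝔮 ∧ DRing.IsPseudoCoherent (Localization.Away G) m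
      (DRing.toD ((DR.bc (algebraMap P (Localization.Away G))).obj ((DRing.restrictCx φ).obj C)))) :
    DRing.IsPseudoCoherent P m (DRing.toD ((DRing.restrictCx φ).obj C)) := by
  let X := (DRing.restrictCx φ).obj C
  let S : Set P := {G | DRing.IsPseudoCoherent (Localization.Away G) m
    (DRing.toD ((DR.bc (algebraMap P (Localization.Away G))).obj X))}
  have hker : ∀ G ∈ RingHom.ker φ, G ∈ S := fun G hG => by
    refine DR.isPseudoCoherent_of_vanishing _ m fun i _ => DR.subsingleton_HD_of_isZero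
      (DerivedCategory.Q.map_isZero ((IsZero.iff_id_eq_zero _).2 (HomologicalComplex.hom_ext _ _ fun j => ?_))) i
    obtain ⟨e⟩ := DR.nonempty_extendScalars_iso (A := P) (B := Localization.Away G) (X.X j)
    haveI : Subsingleton (Localization.Away G ⊗[P] X.X j) := by
      refine subsingleton_of_forall_eq 0 fun z => ?_
      induction z using TensorProduct.induction_on with
      | zero => rfl
      | tmul a x =>
        have hx : G • x = 0 := by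
          change φ G • (show C.X j from x) = 0
          rw [RingHom.mem_ker.1 hG, zero_smul]
        have ha : a = G • (IsLocalization.Away.invSelf G * a) := by
          rw [Algebra.smul_def, ← mul_assoc, IsLocalization.Away.mul_invSelf, one_mul]
        rw [ha, TensorProduct.smul_tmul, hx, TensorProduct.tmul_zero]
      | add x y hx hy => rw [hx, hy, add_zero]
    exact ((ModuleCat.isZero_of_subsingleton (ModuleCat.of (Localization.Away G) (Localization.Away G ⊗[P] X.X j))).of_iso e.symm).eq_of_src _ _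
  have hS : Ideal.span S = ⊤ := by
    by_contra hne
    obtain ⟨M, hM, hle⟩ := Ideal.exists_le_maximal _ hne
    have hk : RingHom.ker φ ≤ M := fun G hG => hle (Ideal.subset_span (hker G hG))
    haveI : (M.map φ).IsPrime := Ideal.map_isPrime_of_surjective hφ hk
    obtain ⟨G, hG, hGS⟩ := h (M.map φ) inferInstance
    exact hG (Ideal.mem_map_of_mem φ (hle (Ideal.subset_span hGS)))
  obtain ⟨T, hTS, h1⟩ := Submodule.mem_span_finite_of_mem_span ((Ideal.eq_top_iff_one _).1 hS)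
  let f : Fin T.card → P := fun j => (T.equivFin.symm j).1
  have hf : Ideal.span (Set.range f) = ⊤ := by
    refine (Ideal.eq_top_iff_one _).2 (Submodule.span_mono ?_ h1)
    intro G hG
    exact ⟨T.equivFin ⟨G, hG⟩, by simp [f]⟩
  exact DR.isPseudoCoherent_of_covers (DR.covers_away f hf) (fun j => DR.flat_away _) X m
    fun j => hTS (T.equivFin.symm j).2

/-- A faithfully flat finite projective algebra retracts onto the base. -/
theorem exists_retraction {B D : Type u} [CommRing B] [CommRing D] [Algebra B D] [Module.Projective B D]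
    [Module.FaithfullyFlat B D] : ∃ r : D →ₗ[B] B, r 1 = 1 := by
  obtain ⟨s, hs⟩ := (Module.projective_def).1 ‹Module.Projective B D›
  let ev : (D →ₗ[B] B) →ₗ[B] B := LinearMap.applyₗ (1 : D)
  suffices h : (1 : B) ∈ LinearMap.range ev by
    obtain ⟨r, hr⟩ := h
    exact ⟨r, hr⟩
  by_contra hne
  obtain ⟨M, hM, hle⟩ := Ideal.exists_le_maximal (LinearMap.range ev : Ideal B)
    (fun h => hne (h ▸ Submodule.mem_top))
  have h1 : (1 : D) ∈ M.map (algebraMap B D) := by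
    rw [← hs 1, Finsupp.linearCombination_apply]
    refine Ideal.sum_mem _ fun d _ => ?_
    simp only [id_eq]
    rw [Algebra.smul_def]
    exact Ideal.mul_mem_right _ _ (Ideal.mem_map_of_mem _ (hle ⟨(Finsupp.lapply d).comp s, rfl⟩))
  obtain ⟨Q, hQ⟩ := PrimeSpectrum.comap_surjective_of_faithfullyFlat (B := D) ⟨M, hM.isPrime⟩
  exact Q.isPrime.ne_top ((Ideal.eq_top_iff_one _).2
    (Ideal.map_le_iff_le_comap.2 (congrArg PrimeSpectrum.asIdeal hQ).ge h1))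

/-- The chart test on a model is relative pseudo-coherence of the model. -/
theorem rel_iff_pcOn {X S : Scheme.{u}} (f : X ⟶ S) {U : X.Opens} (hU : IsAffineOpen U) {V : S.Opens}
    (hle : U ≤ f ⁻¹ᵁ V) [Algebra Γ(S, V) Γ(X, U)] (halg : algebraMap Γ(S, V) Γ(X, U) = (f.appLE V U hle).hom)
    {n : ℕ} {φ : MvPolynomial (Fin n) Γ(S, V) →+* Γ(X, U)} (hφ : DerSch.IsChart f U V hle φ) {m : ℤ}
    {K : DCoh.D X} {C : DRing.Cx Γ(X, U)} (hC : IsModel (B := Γ(X, U)) hU.fromSpec C K) :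
    PCOn m K U φ ↔ DerCA.IsRelPseudoCoherent Γ(S, V) Γ(X, U) m (DRing.toD C) := by
  let α : MvPolynomial (Fin n) Γ(S, V) →ₐ[Γ(S, V)] Γ(X, U) :=
    { toRingHom := φ
      commutes' := fun a => (DFunLike.congr_fun hφ.2 a).trans (DFunLike.congr_fun halg a).symm }
  rw [rel_iff α hφ.1, pcOn_iff_model hU hφ.1 hC]
  exact pc_congr ((ModuleCat.restrictScalars φ).mapDerivedCategoryFactors.app C).symm m

variable {X S : Scheme.{u}} (p : X ⟶ S) [LocallyOfFiniteType p] {K : DCoh.D X} {m : ℤ}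

/-- Pullbacks along flat morphisms locally of finite presentation. -/
theorem isPseudoCoherentRel_lpull_flat_source {X' : Scheme.{u}} (g : X' ⟶ X) [Flat g]
    [LocallyOfFinitePresentation g] [DCoh.HasLpull g] (hq : DCoh.IsQCohD K)
    (hK : DerSch.IsPseudoCoherentRel p m K) : DerSch.IsPseudoCoherentRel (g ≫ p) m ((DCoh.Lpull g).obj K) := by
  refine isPseudoCoherentRel_of_local fun y => ?_
  obtain ⟨U, V, hU, hV, hxU, -, hle⟩ := exists_affine_pair p (O := ⊤) (x := g y) trivial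
  obtain ⟨Z, hZ, hyZ, hZU⟩ := exists_isAffineOpen_mem_and_subset (x := y) (U := g ⁻¹ᵁ U) hxU
  obtain ⟨C, hkC, hC⟩ := exists_modelU (B := Γ(X, U)) hU.fromSpec hq
  obtain ⟨n, φ, hφ⟩ := exists_isChart p hU hV hle
  have hle' : Z ≤ (g ≫ p) ⁻¹ᵁ V := fun z hz => hle (hZU hz)
  obtain ⟨k, γ, hγ⟩ := exists_isChart (g ≫ p) hZ hV hle'
  letI : Algebra Γ(S, V) Γ(X, U) := (p.appLE V U hle).hom.toAlgebra
  letI : Algebra Γ(X, U) Γ(X', Z) := (g.appLE U Z hZU).hom.toAlgebra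
  letI : Algebra Γ(S, V) Γ(X', Z) := ((g ≫ p).appLE V Z hle').hom.toAlgebra
  haveI : IsScalarTower Γ(S, V) Γ(X, U) Γ(X', Z) := .of_algebraMap_eq' (by
    simp only [RingHom.algebraMap_toAlgebra]
    rw [← CommRingCat.hom_comp, Scheme.Hom.appLE_comp_appLE])
  haveI : Algebra.FiniteType Γ(S, V) Γ(X, U) := p.finiteType_appLE hV hU hle
  haveI : Module.Flat Γ(X, U) Γ(X', Z) := g.flat_appLE hU hZ hZU
  haveI : Algebra.FinitePresentation Γ(X, U) Γ(X', Z) := g.finitePresentation_appLE hU hZ hZU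
  have hC' : IsModel (B := Γ(X', Z)) hZ.fromSpec ((DR.bc (g.appLE U Z hZU).hom).obj C) ((DCoh.Lpull g).obj K) :=
    isModel_lpullU (A := Γ(X, U)) (B := Γ(X', Z)) g hU.fromSpec hZ.fromSpec _
      (IsAffineOpen.SpecMap_appLE_fromSpec g hU hZ hZU).symm hkC hC
  exact ⟨Z, V, hle', k, γ, hyZ, hZ, hV, hγ, (rel_iff_pcOn (g ≫ p) hZ hle' rfl hγ hC').2
    (rel_bc_of_flat (A := Γ(X, U)) (relModuleAll_flatBase (B := Γ(X, U))) C m
      ((rel_iff_pcOn p hU hle rfl hφ hC).1 (pcOn_of_isPseudoCoherentRel hK hU hV hφ)))⟩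

/-- Fppf descent on the source. -/
theorem isPseudoCoherentRel_of_fppf_source {ι : Type u} {Xi : ι → Scheme.{u}} (g : ∀ i, Xi i ⟶ X)
    [∀ i, Flat (g i)] [∀ i, LocallyOfFinitePresentation (g i)] (hcov : ∀ x : X, ∃ i y, g i y = x)
    [∀ i, DCoh.HasLpull (g i)] (hq : DCoh.IsQCohD K)
    (hK : ∀ i, DerSch.IsPseudoCoherentRel (g i ≫ p) m ((DCoh.Lpull (g i)).obj K)) :
    DerSch.IsPseudoCoherentRel p m K := by
  refine isPseudoCoherentRel_of_local fun x₀ => ?_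
  obtain ⟨U, V, hU, hV, hxU, -, hle⟩ := exists_affine_pair p (O := ⊤) (x := x₀) trivial
  obtain ⟨C, hkC, hC⟩ := exists_modelU (B := Γ(X, U)) hU.fromSpec hq
  obtain ⟨n, φ, hφ⟩ := exists_isChart p hU hV hle
  refine ⟨U, V, hle, n, φ, hxU, hU, hV, hφ, (pcOn_iff_model hU hφ.1 hC).2 ?_⟩
  letI : Algebra Γ(S, V) Γ(X, U) := (p.appLE V U hle).hom.toAlgebra
  haveI : Algebra.FiniteType Γ(S, V) Γ(X, U) := p.finiteType_appLE hV hU hle
  refine pc_of_local_away φ hφ.1 C fun 𝔮 h𝔮 => ?_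
  let X₁ := ∐ fun i => (g i ⁻¹ᵁ U).toScheme
  let F : X₁ ⟶ U.toScheme := Sigma.desc fun i => g i ∣_ U
  haveI : Flat F := IsZariskiLocalAtSource.sigmaDesc (P := @Flat) fun i =>
    MorphismProperty.of_isPullback (isPullback_morphismRestrict (g i) U).flip (inferInstanceAs (Flat (g i)))
  haveI : LocallyOfFinitePresentation F :=
    IsZariskiLocalAtSource.sigmaDesc (P := @LocallyOfFinitePresentation) fun i =>
      MorphismProperty.of_isPullback (isPullback_morphismRestrict (g i) U).flip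
        (inferInstanceAs (LocallyOfFinitePresentation (g i)))
  haveI : Surjective F := ⟨fun u => by
    obtain ⟨i, y, hy⟩ := hcov u.1
    refine ⟨Sigma.ι (fun i => (g i ⁻¹ᵁ U).toScheme) i ⟨y, show g i y ∈ U by rw [hy]; exact u.2⟩, ?_⟩
    rw [← Scheme.Hom.comp_apply, Sigma.ι_desc]
    exact Subtype.ext ((morphismRestrict_base_coe (g i) U _).trans hy)⟩
  have hx : hU.fromSpec ⟨𝔮, h𝔮⟩ ∈ U := by
    have : hU.fromSpec ⟨𝔮, h𝔮⟩ ∈ Set.range hU.fromSpec := ⟨_, rfl⟩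
    rwa [hU.range_fromSpec] at this
  let x : X := hU.fromSpec ⟨𝔮, h𝔮⟩
  have hprime : hU.primeIdealOf ⟨x, hx⟩ = ⟨𝔮, h𝔮⟩ :=
    hU.fromSpec.isOpenEmbedding.injective (hU.fromSpec_primeIdealOf ⟨x, hx⟩)
  obtain ⟨S₁, Q, j, hj, g₁, h, hfin, hsur, hfl, hfp, hc, s, hs⟩ :=
    GrothLib.FppfRefine.exists_finite_flat_chart F ⟨x, hx⟩
  obtain ⟨W, hW, hsW, -⟩ := exists_isAffineOpen_mem_and_subset (x := s) (U := ⊤) trivial
  let jX : S₁ ⟶ X := j ≫ U.ι
  have hWU : W ≤ jX ⁻¹ᵁ U := fun w _ => (j w).2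
  have hWV : W ≤ (jX ≫ p) ⁻¹ᵁ V := fun w hw => hle (hWU hw)
  let Q₁ := g₁ ⁻¹ᵁ W
  have hQ₁ : IsAffineOpen Q₁ := hW.preimage g₁
  letI : Algebra Γ(X, U) Γ(S₁, W) := (jX.appLE U W hWU).hom.toAlgebra
  letI : Algebra Γ(S, V) Γ(S₁, W) := ((jX ≫ p).appLE V W hWV).hom.toAlgebra
  haveI : IsScalarTower Γ(S, V) Γ(X, U) Γ(S₁, W) := .of_algebraMap_eq' (by
    simp only [RingHom.algebraMap_toAlgebra]
    rw [← CommRingCat.hom_comp, Scheme.Hom.appLE_comp_appLE])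
  haveI : Algebra.Etale Γ(X, U) Γ(S₁, W) := RingHom.etale_algebraMap.1 (jX.etale_appLE hU hW hWU)
  haveI : Algebra.FiniteType Γ(S, V) Γ(S₁, W) := .trans (S := Γ(X, U)) inferInstance inferInstance
  letI : Algebra Γ(S₁, W) Γ(Q, Q₁) := (g₁.appLE W Q₁ le_rfl).hom.toAlgebra
  letI : Algebra Γ(X, U) Γ(Q, Q₁) := ((g₁ ≫ jX).appLE U Q₁ fun y hy => hWU hy).hom.toAlgebra
  letI : Algebra Γ(S, V) Γ(Q, Q₁) := ((g₁ ≫ jX ≫ p).appLE V Q₁ fun y hy => hWV hy).hom.toAlgebra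
  haveI : IsScalarTower Γ(X, U) Γ(S₁, W) Γ(Q, Q₁) := .of_algebraMap_eq' (by
    simp only [RingHom.algebraMap_toAlgebra]
    rw [← CommRingCat.hom_comp, Scheme.Hom.appLE_comp_appLE])
  haveI : IsScalarTower Γ(S, V) Γ(S₁, W) Γ(Q, Q₁) := .of_algebraMap_eq' (by
    simp only [RingHom.algebraMap_toAlgebra]
    rw [← CommRingCat.hom_comp, Scheme.Hom.appLE_comp_appLE])
  haveI : Module.Finite Γ(S₁, W) Γ(Q, Q₁) := by
    have := g₁.finite_app W hW
    rwa [Scheme.Hom.app_eq_appLE] at this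
  haveI : Module.Flat Γ(S₁, W) Γ(Q, Q₁) := g₁.flat_appLE hW hQ₁ le_rfl
  haveI : Algebra.FinitePresentation Γ(S₁, W) Γ(Q, Q₁) := g₁.finitePresentation_appLE hW hQ₁ le_rfl
  haveI : Module.FinitePresentation Γ(S₁, W) Γ(Q, Q₁) :=
    Module.FinitePresentation.of_finite_of_finitePresentation _ _
  haveI : Module.Projective Γ(S₁, W) Γ(Q, Q₁) := Module.Flat.projective_of_finitePresentation
  haveI : Module.FaithfullyFlat Γ(S₁, W) Γ(Q, Q₁) := Module.FaithfullyFlat.of_comap_surjective fun w => by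
    have hw : hW.fromSpec w ∈ (W : Set S₁) := by rw [← hW.range_fromSpec]; exact ⟨w, rfl⟩
    obtain ⟨y, hy⟩ := g₁.surjective (hW.fromSpec w)
    have hyQ : y ∈ Q₁ := show g₁ y ∈ W by rw [hy]; exact hw
    refine ⟨hQ₁.primeIdealOf ⟨y, hyQ⟩, ?_⟩
    refine (IsAffineOpen.comap_primeIdealOf_appLE (f := g₁) W hW Q₁ hQ₁ le_rfl hyQ).trans
      (hW.fromSpec.isOpenEmbedding.injective ((hW.fromSpec_primeIdealOf _).trans hy))
  haveI : Algebra.FiniteType Γ(S, V) Γ(Q, Q₁) := .trans (S := Γ(S₁, W)) inferInstance inferInstance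
  obtain ⟨k, γ, hγ⟩ := exists_pres (R := Γ(S, V)) (A := Γ(Q, Q₁))
  let C₂ := (DR.bc (algebraMap Γ(X, U) Γ(Q, Q₁))).obj C
  have hD : DerCA.IsRelPseudoCoherent Γ(S, V) Γ(Q, Q₁) m (DRing.toD C₂) := by
    refine (rel_iff γ hγ _ m).2 (DerBC.isPseudoCoherent_of_iso
      ((ModuleCat.restrictScalars (γ : MvPolynomial (Fin k) Γ(S, V) →+* Γ(Q, Q₁))).mapDerivedCategoryFactors.app C₂).symm
      (pc_of_local_away (γ : MvPolynomial (Fin k) Γ(S, V) →+* Γ(Q, Q₁)) hγ C₂ fun 𝔯 h𝔯 => ?_))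
    let y : Q := hQ₁.fromSpec ⟨𝔯, h𝔯⟩
    have hy : y ∈ Q₁ := by
      have : y ∈ Set.range hQ₁.fromSpec := ⟨_, rfl⟩
      rwa [hQ₁.range_fromSpec] at this
    obtain ⟨i, z, hz⟩ : ∃ i z, Sigma.ι (fun i => (g i ⁻¹ᵁ U).toScheme) i z = h y := by
      obtain ⟨⟨i, z⟩, hz⟩ := (sigmaMk fun i => (g i ⁻¹ᵁ U).toScheme).surjective (h y)
      exact ⟨i, z, by rw [← hz, sigmaMk_mk]⟩
    obtain ⟨Z, hZ, hzZ, hZU⟩ := exists_isAffineOpen_mem_and_subset (x := z.1) (U := g i ⁻¹ᵁ U) z.2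
    let σi := Sigma.ι (fun i => (g i ⁻¹ᵁ U).toScheme) i
    obtain ⟨O, hO, hyO, hOQ⟩ := exists_isAffineOpen_mem_and_subset (x := y)
      (U := Q₁ ⊓ h ⁻¹ᵁ (σi ''ᵁ ((g i ⁻¹ᵁ U).ι ⁻¹ᵁ Z))) ⟨hy, ⟨z, hzZ, hz⟩⟩
    let k₀ : O.toScheme ⟶ (g i ⁻¹ᵁ U).toScheme := IsOpenImmersion.lift σi (O.ι ≫ h) (by
      rintro _ ⟨w, rfl⟩
      obtain ⟨z', -, hz'⟩ := (hOQ w.2).2
      exact ⟨z', hz'.trans (Scheme.Hom.comp_apply O.ι h w).symm⟩)
    have hk₀ : k₀ ≫ σi = O.ι ≫ h := IsOpenImmersion.lift_fac _ _ _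
    let k₁ : O.toScheme ⟶ Xi i := k₀ ≫ (g i ⁻¹ᵁ U).ι
    have hcomm : k₁ ≫ g i = O.ι ≫ g₁ ≫ jX := by
      have h1 : σi ≫ F ≫ U.ι = (g i ⁻¹ᵁ U).ι ≫ g i := by
        rw [Sigma.ι_desc_assoc, morphismRestrict_ι]
      simp only [k₁, jX, Category.assoc]
      rw [← h1, ← Category.assoc k₀, hk₀, Category.assoc, ← Category.assoc h, hc, Category.assoc]
    have hk₁ : (⊤ : O.toScheme.Opens) ≤ k₁ ⁻¹ᵁ Z := fun w _ => by
      obtain ⟨z', hz'Z, hz'⟩ := (hOQ w.2).2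
      have : k₀ w = z' := σi.isOpenEmbedding.injective (by
        rw [← Scheme.Hom.comp_apply, hk₀, Scheme.Hom.comp_apply]
        exact hz'.symm)
      change (g i ⁻¹ᵁ U).ι (k₀ w) ∈ Z
      rw [this]
      exact hz'Z
    haveI : IsAffine O.toScheme := hO
    have hT : IsAffineOpen (⊤ : O.toScheme.Opens) := isAffineOpen_top _
    have hTQ : (⊤ : O.toScheme.Opens) ≤ O.ι ⁻¹ᵁ Q₁ := fun w _ => (hOQ w.2).1
    have hTU : (⊤ : O.toScheme.Opens) ≤ (k₁ ≫ g i) ⁻¹ᵁ U := fun w hw => hZU (hk₁ hw)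
    have hTV : (⊤ : O.toScheme.Opens) ≤ ((k₁ ≫ g i) ≫ p) ⁻¹ᵁ V := fun w hw => hle (hTU hw)
    have hZV : Z ≤ (g i ≫ p) ⁻¹ᵁ V := fun w hw => hle (hZU hw)
    letI : Algebra Γ(X, U) Γ(Xi i, Z) := ((g i).appLE U Z hZU).hom.toAlgebra
    letI : Algebra Γ(S, V) Γ(Xi i, Z) := ((g i ≫ p).appLE V Z hZV).hom.toAlgebra
    letI : Algebra Γ(Xi i, Z) Γ(O.toScheme, ⊤) := (k₁.appLE Z ⊤ hk₁).hom.toAlgebra
    letI : Algebra Γ(X, U) Γ(O.toScheme, ⊤) := ((k₁ ≫ g i).appLE U ⊤ hTU).hom.toAlgebra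
    letI : Algebra Γ(S, V) Γ(O.toScheme, ⊤) := (((k₁ ≫ g i) ≫ p).appLE V ⊤ hTV).hom.toAlgebra
    letI : Algebra Γ(Q, Q₁) Γ(O.toScheme, ⊤) := (O.ι.appLE Q₁ ⊤ hTQ).hom.toAlgebra
    haveI : IsScalarTower Γ(S, V) Γ(X, U) Γ(Xi i, Z) := .of_algebraMap_eq' (by
      simp only [RingHom.algebraMap_toAlgebra]
      rw [← CommRingCat.hom_comp, Scheme.Hom.appLE_comp_appLE])
    haveI : IsScalarTower Γ(X, U) Γ(Xi i, Z) Γ(O.toScheme, ⊤) := .of_algebraMap_eq' (by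
      simp only [RingHom.algebraMap_toAlgebra]
      rw [← CommRingCat.hom_comp, Scheme.Hom.appLE_comp_appLE])
    haveI : IsScalarTower Γ(S, V) Γ(Xi i, Z) Γ(O.toScheme, ⊤) := .of_algebraMap_eq' (by
      simp only [RingHom.algebraMap_toAlgebra]
      rw [← CommRingCat.hom_comp, Scheme.Hom.appLE_comp_appLE]
      simp only [Category.assoc])
    haveI : IsScalarTower Γ(S, V) Γ(Q, Q₁) Γ(O.toScheme, ⊤) := .of_algebraMap_eq' (by
      simp only [RingHom.algebraMap_toAlgebra]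
      rw [← CommRingCat.hom_comp, Scheme.Hom.appLE_comp_appLE]
      simp only [hcomm, Category.assoc])
    haveI hTXD : IsScalarTower Γ(X, U) Γ(Q, Q₁) Γ(O.toScheme, ⊤) := .of_algebraMap_eq' (by
      simp only [RingHom.algebraMap_toAlgebra]
      rw [← CommRingCat.hom_comp, Scheme.Hom.appLE_comp_appLE]
      simp only [hcomm])
    haveI : Algebra.Etale Γ(Q, Q₁) Γ(O.toScheme, ⊤) := RingHom.etale_algebraMap.1 (O.ι.etale_appLE hQ₁ hT hTQ)
    haveI : Flat (k₁ ≫ g i) := by rw [hcomm]; infer_instance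
    haveI : LocallyOfFinitePresentation (k₁ ≫ g i) := by rw [hcomm]; infer_instance
    haveI : Module.Flat Γ(X, U) Γ(O.toScheme, ⊤) := (k₁ ≫ g i).flat_appLE hU hT hTU
    haveI : Algebra.FinitePresentation Γ(X, U) Γ(O.toScheme, ⊤) := (k₁ ≫ g i).finitePresentation_appLE hU hT hTU
    haveI : Module.Flat Γ(X, U) Γ(Xi i, Z) := (g i).flat_appLE hU hZ hZU
    haveI : Algebra.FinitePresentation Γ(X, U) Γ(Xi i, Z) := (g i).finitePresentation_appLE hU hZ hZU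
    obtain ⟨l, δ, hδ⟩ := exists_isChart (g i ≫ p) hZ hV hZV
    have hC' : IsModel (B := Γ(Xi i, Z)) hZ.fromSpec
        ((DR.bc ((g i).appLE U Z hZU).hom).obj C) ((DCoh.Lpull (g i)).obj K) :=
      isModel_lpullU (A := Γ(X, U)) (B := Γ(Xi i, Z)) (g i) hU.fromSpec hZ.fromSpec _
        (IsAffineOpen.SpecMap_appLE_fromSpec (g i) hU hZ hZU).symm hkC hC
    have h1 : DerCA.IsRelPseudoCoherent Γ(S, V) Γ(O.toScheme, ⊤) m
        (DRing.toD ((DR.bc (algebraMap Γ(X, U) Γ(O.toScheme, ⊤))).obj C)) :=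
      rel_bc_of_tower (B := Γ(X, U)) (B' := Γ(Xi i, Z)) hkC
        ((rel_iff_pcOn (g i ≫ p) hZ hZV rfl hδ hC').1 (pcOn_of_isPseudoCoherentRel (hK i) hZ hV hδ))
    have h2 : DerCA.IsRelPseudoCoherent Γ(S, V) Γ(O.toScheme, ⊤) m
        (DRing.toD ((DR.bc (algebraMap Γ(Q, Q₁) Γ(O.toScheme, ⊤))).obj C₂)) :=
      rel_iso (DerivedCategory.Q.mapIso (eqToIso (congrArg (fun ψ => (DR.bc ψ).obj C)
        (IsScalarTower.algebraMap_eq Γ(X, U) Γ(Q, Q₁) Γ(O.toScheme, ⊤))) ≪≫ DR.bcCompIso _ _ C)) h1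
    obtain ⟨G, hG, hGpc⟩ := exists_pc_away_of_etale γ hγ
      (hT.primeIdealOf ⟨⟨y, hyO⟩, trivial⟩).asIdeal C₂ h2
    refine ⟨G, fun hm => hG ?_, hGpc⟩
    have hcm := congrArg PrimeSpectrum.asIdeal
      (IsAffineOpen.comap_primeIdealOf_appLE (f := O.ι) Q₁ hQ₁ ⊤ hT hTQ (x := (⟨y, hyO⟩ : O.toScheme)) trivial)
    have hr : hQ₁.primeIdealOf ⟨y, hy⟩ = ⟨𝔯, h𝔯⟩ :=
      hQ₁.fromSpec.isOpenEmbedding.injective (hQ₁.fromSpec_primeIdealOf ⟨y, hy⟩)
    rw [show (hT.primeIdealOf ⟨⟨y, hyO⟩, trivial⟩).asIdeal.comap (algebraMap Γ(Q, Q₁) Γ(O.toScheme, ⊤)) = 𝔯 from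
      hcm.trans (congrArg PrimeSpectrum.asIdeal hr)]
    exact hm
  obtain ⟨r, hr⟩ := exists_retraction (B := Γ(S₁, W)) (D := Γ(Q, Q₁))
  have hB₁ : DerCA.IsRelPseudoCoherent Γ(S, V) Γ(S₁, W) m
      (DRing.toD ((DR.bc (algebraMap Γ(X, U) Γ(S₁, W))).obj C)) :=
    rel_of_finite_retract r hr (rel_iso (DerivedCategory.Q.mapIso (eqToIso (congrArg (fun ψ => (DR.bc ψ).obj C)
      (IsScalarTower.algebraMap_eq Γ(X, U) Γ(S₁, W) Γ(Q, Q₁))) ≪≫ DR.bcCompIso _ _ C)) hD)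
  let α : MvPolynomial (Fin n) Γ(S, V) →ₐ[Γ(S, V)] Γ(X, U) :=
    { toRingHom := φ
      commutes' := fun a => DFunLike.congr_fun hφ.2 a }
  obtain ⟨G, hG, hGpc⟩ := exists_pc_away_of_etale α hφ.1 (hW.primeIdealOf ⟨s, hsW⟩).asIdeal C hB₁
  refine ⟨G, fun hm => hG ?_, hGpc⟩
  have hcm := congrArg PrimeSpectrum.asIdeal
    (IsAffineOpen.comap_primeIdealOf_appLE (f := jX) U hU W hW hWU hsW)
  have hxe : jX s = x := by
    change U.ι (j s) = x
    rw [hs]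
    rfl
  have hpe : hU.primeIdealOf ⟨jX s, hWU hsW⟩ = ⟨𝔮, h𝔮⟩ := by
    rw [← hprime]
    exact congrArg hU.primeIdealOf (Subtype.ext hxe)
  rw [show (hW.primeIdealOf ⟨s, hsW⟩).asIdeal.comap (algebraMap Γ(X, U) Γ(S₁, W)) = 𝔮 from
    hcm.trans (congrArg PrimeSpectrum.asIdeal hpe)]
  exact hm

end GrothLib.RelPCUnb
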